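import Mathlib
import Cfsg.Agent.H29.CyclicPairs
import Cfsg.Agent.H267.ThmA

/-!
# Cyclic Sylow subgroups and solvable pairs (helper509)

`G` has cyclic Sylow `p`-subgroups, `x` has order `p`, `e = |N_G(⟨x⟩) : C_G(x)|`. If `y` is `p`-regular and
`⟨x, y^g⟩` is `p`-solvable for all `g`, then `y ^ e ∈ O_{p'}(G)`.
-/

set_option autoImplicit false

namespace Cfsg.Agent.H509.CycBlock

open Cfsg Cfsg.Agent.H29.CyclicPairs

universe u

theorem relIndex_mul_card' {T : Type*} [Group T] (H K : Subgroup T) (hHK : H ≤ K) :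
    H.relIndex K * Nat.card H = Nat.card K := by
  have h1 := (H.subgroupOf K).card_mul_index
  rw [Nat.card_congr (Subgroup.subgroupOfEquivOfLe hHK).toEquiv] at h1
  rw [mul_comm]; exact h1

/-- Two elements of order `p` which agree modulo a normal `p'`-subgroup `K` are conjugate under `K`. -/
theorem exists_conj_of_mk_eq {T : Type*} [Group T] [Finite T] {p : ℕ} [hp : Fact p.Prime]
    (K : Subgroup T) [hKn : K.Normal] (hK : (Nat.card K).Coprime p) {w w' : T} (hw : orderOf w = p)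
    (hw' : orderOf w' = p) (h : QuotientGroup.mk' K w = QuotientGroup.mk' K w') :
    ∃ k ∈ K, k * w * k⁻¹ = w' := by
  classical
  have hwK : ∀ i : ℤ, w' ^ i ∈ K → w' ^ i = 1 := by
    intro i hi
    by_contra hne
    have h1 : orderOf (w' ^ i) ∣ Nat.card K := Subgroup.orderOf_dvd_natCard _ hi
    have h2 : orderOf (w' ^ i) ∣ p := by
      have : w' ^ i ∈ Subgroup.zpowers w' := Subgroup.zpow_mem _ (Subgroup.mem_zpowers _) i
      have h3 := Subgroup.orderOf_dvd_natCard _ this
      rwa [Nat.card_zpowers, hw'] at h3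
    have h3 : orderOf (w' ^ i) ∣ 1 := by rw [← hK]; exact Nat.dvd_gcd h1 h2
    exact hne (orderOf_eq_one_iff.1 (Nat.dvd_one.1 h3))
  set X : Subgroup T := Subgroup.zpowers w ⊔ K with hX
  have hKX : K ≤ X := le_sup_right
  have hwX : w ∈ X := Subgroup.mem_sup_left (Subgroup.mem_zpowers w)
  have hw'X : w' ∈ X := by
    have h1 : w⁻¹ * w' ∈ K := by
      rw [← QuotientGroup.eq_one_iff (N := K)]
      have : QuotientGroup.mk' K (w⁻¹ * w') = 1 := by rw [map_mul, map_inv, h, inv_mul_cancel]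
      exact this
    have h2 : w' = w * (w⁻¹ * w') := by group
    rw [h2]
    exact X.mul_mem hwX (hKX h1)
  have hcardX : Nat.card X = p * Nat.card K := by
    have h1 : K.relIndex X = K.relIndex (Subgroup.zpowers w) := by
      rw [hX]; exact Subgroup.relIndex_sup_right ..
    have h2 : (K ⊓ Subgroup.zpowers w) = ⊥ := by
      apply Subgroup.eq_bot_of_card_eq
      have a1 : Nat.card ↥(K ⊓ Subgroup.zpowers w) ∣ Nat.card K :=
        Subgroup.card_dvd_of_le inf_le_left
      have a2 : Nat.card ↥(K ⊓ Subgroup.zpowers w) ∣ Nat.card (Subgroup.zpowers w) :=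
        Subgroup.card_dvd_of_le inf_le_right
      rw [Nat.card_zpowers, hw] at a2
      have : Nat.card ↥(K ⊓ Subgroup.zpowers w) ∣ 1 := by rw [← hK]; exact Nat.dvd_gcd a1 a2
      exact Nat.dvd_one.1 this
    have h3 : K.relIndex (Subgroup.zpowers w) = p := by
      rw [← Subgroup.inf_relIndex_right, h2, Subgroup.relIndex_bot_left, Nat.card_zpowers, hw]
    have h4 := relIndex_mul_card' K X hKX
    rw [h1, h3] at h4
    rw [← h4]
  have hfac : (Nat.card X).factorization p = 1 := by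
    have hp0 : ¬ p ∣ Nat.card K := (Nat.Prime.coprime_iff_not_dvd hp.out).1 hK.symm
    rw [hcardX, Nat.factorization_mul hp.out.ne_zero Nat.card_pos.ne', Finsupp.add_apply,
      hp.out.factorization_self, Nat.factorization_eq_zero_of_not_dvd hp0]
  -- the two Sylow subgroups
  have hmk : ∀ v : T, orderOf v = p → ∀ hv : v ∈ X,
      Nat.card (Subgroup.zpowers (⟨v, hv⟩ : X)) = p ^ (Nat.card X).factorization p := by
    intro v hv hvX
    rw [hfac, pow_one, Nat.card_zpowers, Subgroup.orderOf_mk, hv]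
  let A : Sylow p X := Sylow.ofCard _ (hmk w hw hwX)
  let B : Sylow p X := Sylow.ofCard _ (hmk w' hw' hw'X)
  obtain ⟨v, hv⟩ := MulAction.exists_smul_eq X A B
  have hA : (⟨w, hwX⟩ : X) ∈ A := Subgroup.mem_zpowers _
  have h1 : v * (⟨w, hwX⟩ : X) * v⁻¹ ∈ B := by
    rw [← hv, Transfer.FrobeniusFusion.mem_smul_sylow]
    have : v⁻¹ * (v * (⟨w, hwX⟩ : X) * v⁻¹) * v = ⟨w, hwX⟩ := by group
    rw [this]; exact hA
  have h1' : v * (⟨w, hwX⟩ : X) * v⁻¹ ∈ Subgroup.zpowers (⟨w', hw'X⟩ : X) := h1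
  obtain ⟨i, hi⟩ := Subgroup.mem_zpowers_iff.1 h1'
  have hi' : w' ^ i = (v : T) * w * (v : T)⁻¹ := congrArg Subtype.val hi
  obtain ⟨a, ha, k, hk, hak⟩ := Subgroup.mem_sup_of_normal_right.1 v.2
  obtain ⟨j, rfl⟩ := Subgroup.mem_zpowers_iff.1 ha
  -- `v = w ^ j * k`; use `w ^ j * k * w ^ (-j)`
  refine ⟨w ^ j * k * (w ^ j)⁻¹, hKn.conj_mem k hk _, ?_⟩
  have h2 : w ^ j * k * (w ^ j)⁻¹ * w * (w ^ j * k * (w ^ j)⁻¹)⁻¹ = w' ^ i := by
    rw [hi', ← hak]
    have : (w ^ j)⁻¹ * w * w ^ j = w := by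
      rw [← zpow_neg, ← zpow_add_one, ← zpow_add]; simp
    calc w ^ j * k * (w ^ j)⁻¹ * w * (w ^ j * k * (w ^ j)⁻¹)⁻¹
        = w ^ j * k * ((w ^ j)⁻¹ * w * w ^ j) * k⁻¹ * (w ^ j)⁻¹ := by group
      _ = w ^ j * k * w * (w ^ j * k)⁻¹ := by rw [this]; group
  rw [h2]
  -- `w' ^ i = w'`
  have h3 : QuotientGroup.mk' K (w' ^ i) = QuotientGroup.mk' K w' := by
    rw [← h2]
    have hk1 : QuotientGroup.mk' K (w ^ j * k * (w ^ j)⁻¹) = 1 :=
      (QuotientGroup.eq_one_iff _).2 (hKn.conj_mem k hk _)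
    rw [map_mul, map_mul, map_inv, hk1, one_mul, inv_one, mul_one, h]
  have h4 : w' ^ (i - 1) ∈ K := by
    rw [← QuotientGroup.eq_one_iff (N := K)]
    have : QuotientGroup.mk' K (w' ^ (i - 1)) = 1 := by
      rw [zpow_sub, zpow_one, map_mul, map_inv, h3, mul_inv_cancel]
    exact this
  have h5 := hwK _ h4
  have h6 : w' ^ i = w' ^ (i - 1) * w' := by rw [← zpow_add_one]; congr 1; ring
  rw [h6, h5, one_mul]

variable {G : Type u} [Group G] [Finite G] {p : ℕ} [hp : Fact p.Prime]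

/-- In a `p`-solvable group with cyclic Sylow `p`-subgroups, the image of `⟨x⟩`, `x` of order `p`, modulo
`O_{p'}` contains all elements of order `p`. -/
theorem mk_mem_zpowers (h : Cyc p G) (hs : IsPSolvable p G) {x y : G} (hx : orderOf x = p)
    (hy : orderOf y = p) :
    QuotientGroup.mk' (pPrimeCore p G) y ∈
      Subgroup.zpowers (QuotientGroup.mk' (pPrimeCore p G) x) := by
  set π := QuotientGroup.mk' (pPrimeCore p G) with hπ
  have hsurj : Function.Surjective π := QuotientGroup.mk'_surjective _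
  have hcop := Lib.Cores.pPrimeCore_coprime (G := G) p
  have hord : ∀ z : G, orderOf z = p → orderOf (π z) = p := by
    intro z hz
    have h1 : (π z) ^ p = 1 := by rw [← map_pow, pow_of_orderOf hz, map_one]
    refine orderOf_eq_prime h1 ?_
    intro h2
    have h3 : z ∈ pPrimeCore p G := (QuotientGroup.eq_one_iff z).1 h2
    have h4 : orderOf z ∣ Nat.card (pPrimeCore p G) := Subgroup.orderOf_dvd_natCard _ h3
    rw [hz] at h4
    exact (Nat.Prime.coprime_iff_not_dvd hp.out).1 hcop.symm h4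
  have hQc : Cyc p (G ⧸ pPrimeCore p G) := h.of_surjective π hsurj
  have hQs : IsPSolvable p (G ⧸ pPrimeCore p G) := Lib.PSolvable.IsPSolvable_of_surjective p hs π hsurj
  have hQO : pPrimeCore p (G ⧸ pPrimeCore p G) = ⊥ := Lib.Cores.pPrimeCore_quotient_pPrimeCore p
  have hC := Lib.PSolvable.centralizer_pCore_le_of_pSolvable p hQs hQO
  have hD : IsPGroup p (pCore p (G ⧸ pPrimeCore p G)) := Lib.Cores.pCore_isPGroup p
  have hne : pCore p (G ⧸ pPrimeCore p G) ≠ ⊥ := by
    intro h0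
    rw [h0] at hC
    have h1 : π x ∈ Subgroup.centralizer (((⊥ : Subgroup (G ⧸ pPrimeCore p G)) : Set _)) := by
      rw [Subgroup.mem_centralizer_iff]
      intro t ht
      rw [SetLike.mem_coe, Subgroup.mem_bot] at ht
      rw [ht, one_mul, mul_one]
    have h2 := hC h1
    rw [Subgroup.mem_bot] at h2
    have h3 := hord x hx
    rw [h2, orderOf_one] at h3
    exact hp.out.one_lt.ne h3
  obtain ⟨z, hzD, hzo⟩ : ∃ z ∈ pCore p (G ⧸ pPrimeCore p G), orderOf z = p := by
    have hnt : Nontrivial ↥(pCore p (G ⧸ pPrimeCore p G)) := (Subgroup.nontrivial_iff_ne_bot _).2 hne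
    obtain ⟨n, hn0, hn⟩ := (IsPGroup.nontrivial_iff_card hD).1 hnt
    have hdvd : p ∣ Nat.card ↥(pCore p (G ⧸ pPrimeCore p G)) := by
      rw [hn]; exact dvd_pow_self p hn0.ne'
    obtain ⟨z, hz⟩ := exists_prime_orderOf_dvd_card' p hdvd
    exact ⟨z, z.2, by rw [Subgroup.orderOf_coe]; exact hz⟩
  have hmem : ∀ t : G ⧸ pPrimeCore p G, orderOf t = p → t ∈ Subgroup.zpowers z := by
    intro t ht
    obtain ⟨R, hR⟩ := (isPGroup_zpowers (pow_of_orderOf ht)).exists_le_sylow
    have hRc := hQc R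
    have htR : t ∈ (R : Subgroup (G ⧸ pPrimeCore p G)) := hR (Subgroup.mem_zpowers t)
    have hzR : z ∈ (R : Subgroup (G ⧸ pPrimeCore p G)) := Lib.Cores.pCore_le_sylow R hzD
    have hcm : Commute t z := by
      obtain ⟨g, hg⟩ := hRc.exists_generator
      obtain ⟨i, hi⟩ := Subgroup.mem_zpowers_iff.1 (hg ⟨t, htR⟩)
      obtain ⟨j, hj⟩ := Subgroup.mem_zpowers_iff.1 (hg ⟨z, hzR⟩)
      have h1 : Commute (g ^ i) (g ^ j) := (Commute.refl g).zpow_zpow i j
      rw [hi, hj] at h1
      exact congrArg Subtype.val h1.eq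
    exact hQc.mem_zpowers hcm (pow_of_orderOf ht) hzo
  have hzx : Subgroup.zpowers z ≤ Subgroup.zpowers (π x) := by
    have h1 : Subgroup.zpowers (π x) ≤ Subgroup.zpowers z := by
      rw [Subgroup.zpowers_le]; exact hmem _ (hord x hx)
    have h2 : Subgroup.zpowers (π x) = Subgroup.zpowers z := by
      apply Subgroup.eq_of_le_of_card_ge h1
      rw [Nat.card_zpowers, Nat.card_zpowers, hzo, hord x hx]
    exact h2.ge
  exact hzx (hmem _ (hord y hy))

/-- Frattini for `⟨x⟩` modulo `O_{p'}`. -/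
theorem exists_normalizing (h : Cyc p G) (hs : IsPSolvable p G) {x : G} (hx : orderOf x = p) (u : G) :
    ∃ k ∈ pPrimeCore p G, ∃ i : ℤ, (k * u) * x * (k * u)⁻¹ = x ^ i := by
  have hKn : (pPrimeCore p G).Normal := Lib.Cores.pPrimeCore_normal p
  have hcop := Lib.Cores.pPrimeCore_coprime (G := G) p
  have hwo : orderOf (u * x * u⁻¹) = p := by
    rw [← hx]
    exact orderOf_injective (MulAut.conj u).toMonoidHom (MulAut.conj u).injective x
  obtain ⟨i, hi⟩ := Subgroup.mem_zpowers_iff.1 (mk_mem_zpowers h hs hx hwo)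
  have hxi : orderOf (x ^ i) = p := by
    refine orderOf_eq_prime ?_ ?_
    · rw [← zpow_natCast, ← zpow_mul, mul_comm, zpow_mul, zpow_natCast, pow_of_orderOf hx, one_zpow]
    · intro h1
      have h2 : QuotientGroup.mk' (pPrimeCore p G) (u * x * u⁻¹) = 1 := by
        rw [← hi, ← map_zpow, h1, map_one]
      have h3 : u * x * u⁻¹ ∈ pPrimeCore p G := (QuotientGroup.eq_one_iff _).1 h2
      have h4 : orderOf (u * x * u⁻¹) ∣ Nat.card (pPrimeCore p G) :=
        Subgroup.orderOf_dvd_natCard _ h3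
      rw [hwo] at h4
      exact (Nat.Prime.coprime_iff_not_dvd hp.out).1 hcop.symm h4
  obtain ⟨k, hk, hk2⟩ := exists_conj_of_mk_eq (pPrimeCore p G) hcop hwo hxi
    (by rw [← hi, ← map_zpow])
  refine ⟨k, hk, i, ?_⟩
  rw [← hk2]; group

/-- `|N(⟨x⟩) : C(x)|`. -/
noncomputable def ind (x : G) : ℕ :=
  (Subgroup.centralizer ({x} : Set G)).relIndex
    (Subgroup.normalizer ((Subgroup.zpowers x : Subgroup G) : Set G))

omit [Finite G] in
theorem centralizer_le_normalizer (x : G) : Subgroup.centralizer ({x} : Set G) ≤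
    Subgroup.normalizer ((Subgroup.zpowers x : Subgroup G) : Set G) := by
  intro c hc
  rw [Subgroup.mem_centralizer_singleton_iff] at hc
  rw [Subgroup.mem_normalizer_iff]
  have h1 : ∀ i : ℤ, c * x ^ i * c⁻¹ = x ^ i := by
    intro i
    rw [((show Commute c x from hc).zpow_right i).eq, mul_inv_cancel_right]
  intro y
  constructor
  · intro hy
    obtain ⟨i, rfl⟩ := Subgroup.mem_zpowers_iff.1 hy
    rw [h1]; exact hy
  · intro hy
    obtain ⟨i, hi⟩ := Subgroup.mem_zpowers_iff.1 hy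
    have h2 : y = x ^ i := by
      have : c * y * c⁻¹ = c * x ^ i * c⁻¹ := by rw [h1, hi]
      exact mul_left_cancel (mul_right_cancel this)
    rw [h2]; exact Subgroup.zpow_mem _ (Subgroup.mem_zpowers _) i

/-- `n ^ e` centralises `x` when `n` normalises `⟨x⟩`. -/
theorem pow_ind_comm {x n : G} {i : ℤ} (hn : n * x * n⁻¹ = x ^ i) : n ^ ind x * x = x * n ^ ind x := by
  set N := Subgroup.normalizer ((Subgroup.zpowers x : Subgroup G) : Set G) with hN
  set C := Subgroup.centralizer ({x} : Set G) with hC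
  have hmap : ∀ w ∈ Subgroup.zpowers x, n * w * n⁻¹ ∈ Subgroup.zpowers x := by
    intro w hw
    obtain ⟨j, rfl⟩ := Subgroup.mem_zpowers_iff.1 hw
    rw [← conj_zpow, hn]
    exact Subgroup.zpow_mem _ (Subgroup.zpow_mem _ (Subgroup.mem_zpowers _) i) j
  have hnN : n ∈ N := by
    have h10 : (Subgroup.zpowers x).map (MulAut.conj n).toMonoidHom = Subgroup.zpowers x := by
      apply Subgroup.eq_of_le_of_card_ge
      · rintro _ ⟨w, hw, rfl⟩
        exact hmap w hw
      · rw [Subgroup.card_map_of_injective (MulAut.conj _).injective]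
    rw [hN, Subgroup.mem_normalizer_iff]
    intro w
    constructor
    · exact fun hw => hmap w hw
    · intro hw
      have h11 : n * w * n⁻¹ ∈ (Subgroup.zpowers x).map (MulAut.conj n).toMonoidHom := by
        rw [h10]; exact hw
      obtain ⟨v, hv, hve⟩ := h11
      have h12 : v = w := (MulAut.conj n).injective hve
      rw [← h12]; exact hv
  have hCn : (C.subgroupOf N).Normal := by
    constructor
    intro c hc g
    rw [Subgroup.mem_subgroupOf] at hc ⊢
    rw [hC, Subgroup.mem_centralizer_singleton_iff] at hc ⊢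
    -- `g⁻¹ x g ∈ ⟨x⟩`
    have hg : (g : G)⁻¹ * x * (g : G) ∈ Subgroup.zpowers x := by
      have h1 := (Subgroup.mem_normalizer_iff.1 (N.inv_mem g.2) x).1 (Subgroup.mem_zpowers x)
      rwa [inv_inv] at h1
    obtain ⟨j, hj⟩ := Subgroup.mem_zpowers_iff.1 hg
    have h2 : (c : G) * ((g : G)⁻¹ * x * (g : G)) = ((g : G)⁻¹ * x * (g : G)) * c := by
      rw [← hj]
      exact ((show Commute (c : G) x from hc).zpow_right j).eq
    change (g : G) * c * (g : G)⁻¹ * x = x * ((g : G) * c * (g : G)⁻¹)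
    calc (g : G) * c * (g : G)⁻¹ * x = (g : G) * (c * ((g : G)⁻¹ * x * (g : G))) * (g : G)⁻¹ := by
          group
      _ = x * ((g : G) * c * (g : G)⁻¹) := by rw [h2]; group
  have h1 := Subgroup.pow_index_mem (C.subgroupOf N) (⟨n, hnN⟩ : N)
  rw [Subgroup.mem_subgroupOf] at h1
  have h2 : n ^ (C.subgroupOf N).index ∈ C := h1
  rw [hC, Subgroup.mem_centralizer_singleton_iff] at h2
  exact h2

/-- The subgroup `K' = O_{p'}(T)⟨v⟩`. -/
theorem exists_core {x v : G} (hv : (orderOf v).Coprime p)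
    (hcomm : v⁻¹ * (x * v * x⁻¹) ∈ pPrimeCore p G) :
    ∃ K : Subgroup G, (Nat.card K).Coprime p ∧ v ∈ K ∧ x ∈ Subgroup.normalizer (K : Set G) := by
  have hKn : (pPrimeCore p G).Normal := Lib.Cores.pPrimeCore_normal p
  have hcop := Lib.Cores.pPrimeCore_coprime (G := G) p
  set K := pPrimeCore p G with hK
  set K' : Subgroup G := Subgroup.zpowers v ⊔ K with hK'
  have hKK' : K ≤ K' := le_sup_right
  have hvK' : v ∈ K' := Subgroup.mem_sup_left (Subgroup.mem_zpowers v)
  refine ⟨K', ?_, hvK', ?_⟩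
  · have h4 := relIndex_mul_card' K K' hKK'
    have h1 : K.relIndex K' = K.relIndex (Subgroup.zpowers v) := by
      rw [hK']; exact Subgroup.relIndex_sup_right ..
    rw [h1] at h4
    rw [← h4]
    refine Nat.Coprime.mul_left ?_ hcop
    have h2 : K.relIndex (Subgroup.zpowers v) ∣ Nat.card (Subgroup.zpowers v) :=
      Subgroup.relIndex_dvd_card _ _
    rw [Nat.card_zpowers] at h2
    exact Nat.Coprime.coprime_dvd_left h2 hv
  · have hle : ∀ w ∈ K', x * w * x⁻¹ ∈ K' := by
      intro w hw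
      obtain ⟨a, ha, k, hk, rfl⟩ := Subgroup.mem_sup_of_normal_right.1 hw
      have h1 : x * (a * k) * x⁻¹ = (x * a * x⁻¹) * (x * k * x⁻¹) := by group
      rw [h1]
      refine K'.mul_mem ?_ (hKK' (hKn.conj_mem k hk x))
      obtain ⟨j, rfl⟩ := Subgroup.mem_zpowers_iff.1 ha
      rw [← conj_zpow]
      refine K'.zpow_mem ?_ j
      have h2 : x * v * x⁻¹ = v * (v⁻¹ * (x * v * x⁻¹)) := by group
      rw [h2]
      exact K'.mul_mem hvK' (hKK' hcomm)
    have h10 : K'.map (MulAut.conj x).toMonoidHom = K' := by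
      apply Subgroup.eq_of_le_of_card_ge
      · rintro _ ⟨w, hw, rfl⟩
        exact hle w hw
      · rw [Subgroup.card_map_of_injective (MulAut.conj _).injective]
    rw [Subgroup.mem_normalizer_iff]
    intro w
    constructor
    · exact fun hw => hle w hw
    · intro hw
      have h11 : x * w * x⁻¹ ∈ K'.map (MulAut.conj x).toMonoidHom := by
        rw [h10]; exact hw
      obtain ⟨v, hv, hve⟩ := h11
      have h12 : v = w := (MulAut.conj x).injective hve
      rw [← h12]; exact hv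

/-- **Main theorem.** Cyclic Sylow `p`-subgroups, `p` odd; `x` of order `p`, `y` `p`-regular, all `⟨x, y^g⟩`
`p`-solvable; then `y ^ |N(⟨x⟩) : C(x)|` lies in `O_{p'}(G)`. -/
theorem pow_mem_pPrimeCore (h : Cyc p G) (hp2 : p ≠ 2) {x y : G} (hx : orderOf x = p)
    (hy : (orderOf y).Coprime p)
    (hs : ∀ g : G, IsPSolvable p ↥(Subgroup.closure ({x, g * y * g⁻¹} : Set G))) :
    y ^ ind x ∈ pPrimeCore p G := by
  classical
  obtain ⟨M, hM⟩ := Blocks.ExistsModular.exists_isPModular hp.out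
  set z := y ^ ind x with hz
  have hzc : (orderOf z).Coprime p := Nat.Coprime.coprime_dvd_left (orderOf_pow_dvd _) hy
  -- the values `χ (x * z ^ g)`
  have key : ∀ χ : IrrCharacter G, χ ∈ principalBlock M G → ∀ g : G,
      (χ : G → ℂ) (x * (g * z * g⁻¹)) = (χ : G → ℂ) x := by
    intro χ hχ g
    set u := g * y * g⁻¹ with hu
    set T := Subgroup.closure ({x, u} : Set G) with hT
    have hxT : x ∈ T := Subgroup.subset_closure (by simp)
    have huT : u ∈ T := Subgroup.subset_closure (by simp)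
    have hTs : IsPSolvable p T := hs g
    have hTc : Cyc p T := h.of_injective T.subtype T.subtype_injective
    have hx' : orderOf (⟨x, hxT⟩ : T) = p := by rw [Subgroup.orderOf_mk]; exact hx
    have hKn : (pPrimeCore p T).Normal := Lib.Cores.pPrimeCore_normal p
    obtain ⟨k, hk, i, hki⟩ := exists_normalizing hTc hTs hx' (⟨u, huT⟩ : T)
    have hki' : ((k : G) * u) * x * ((k : G) * u)⁻¹ = x ^ i := congrArg Subtype.val hki
    have hcm := pow_ind_comm (G := G) hki'
    set e := ind x with he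
    -- modulo the core
    set π := QuotientGroup.mk' (pPrimeCore p T) with hπ
    have hπ1 : π (k * ⟨u, huT⟩) = π ⟨u, huT⟩ := by
      have : π k = 1 := (QuotientGroup.eq_one_iff k).2 hk
      rw [map_mul, this, one_mul]
    have hcmT : (k * ⟨u, huT⟩) ^ e * (⟨x, hxT⟩ : T) = ⟨x, hxT⟩ * (k * ⟨u, huT⟩) ^ e :=
      Subtype.ext hcm
    have hcomm : ((⟨u, huT⟩ : T) ^ e)⁻¹ * ((⟨x, hxT⟩ : T) * (⟨u, huT⟩ : T) ^ e * (⟨x, hxT⟩ : T)⁻¹) ∈
        pPrimeCore p T := by
      rw [← QuotientGroup.eq_one_iff]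
      have h1 : π ((⟨u, huT⟩ : T) ^ e) = π ((k * ⟨u, huT⟩) ^ e) := by
        rw [map_pow, map_pow, hπ1]
      have h2 : π (((⟨u, huT⟩ : T) ^ e)⁻¹ *
          ((⟨x, hxT⟩ : T) * (⟨u, huT⟩ : T) ^ e * (⟨x, hxT⟩ : T)⁻¹)) = 1 := by
        rw [map_mul, map_inv, map_mul, map_mul, map_inv, h1, ← map_mul, ← hcmT, map_mul,
          mul_inv_cancel_right, inv_mul_cancel]
      exact h2
    have hve : (orderOf ((⟨u, huT⟩ : T) ^ e)).Coprime p := by
      refine Nat.Coprime.coprime_dvd_left (orderOf_pow_dvd _) ?_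
      rw [Subgroup.orderOf_mk]
      have : orderOf u = orderOf y :=
        orderOf_injective (MulAut.conj g).toMonoidHom (MulAut.conj g).injective y
      rw [this]; exact hy
    obtain ⟨K, hK, hvK, hxK⟩ := exists_core (G := T) hve hcomm
    -- map to `G`
    set KG := K.map T.subtype with hKG
    have hKGc : (Nat.card KG).Coprime p := by
      rw [hKG, Subgroup.card_map_of_injective T.subtype_injective]; exact hK
    have hxKG : x ∈ Subgroup.normalizer (KG : Set G) := by
      apply H267.ThmA.mem_normalizer_of_conj (W := Subgroup.zpowers x) (K := KG) ?_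
        (Subgroup.mem_zpowers x)
      rintro w hw _ ⟨a, ha, rfl⟩
      obtain ⟨j, rfl⟩ := Subgroup.mem_zpowers_iff.1 hw
      have h1 : (⟨x, hxT⟩ : T) ^ j ∈ Subgroup.normalizer (K : Set T) :=
        Subgroup.zpow_mem _ hxK j
      exact ⟨_, (Subgroup.mem_normalizer_iff.1 h1 a).1 ha, rfl⟩
    have hbal : ∀ c ∈ KG, x * c = c * x → c ∈ centralizerPPrimeCore p x := by
      rintro _ ⟨a, ha, rfl⟩ hc
      refine h.mem_centralizerPPrimeCore hp2 hx hc ?_
      have h1 : orderOf a ∣ Nat.card K := Subgroup.orderOf_dvd_natCard _ ha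
      have h2 : orderOf (T.subtype a) = orderOf a := Subgroup.orderOf_coe a
      rw [h2]
      exact Nat.Coprime.coprime_dvd_left h1 hK
    have hgz : g * z * g⁻¹ = u ^ e := by rw [hz, hu, conj_pow]
    have hyK : u ^ e ∈ KG := ⟨_, hvK, rfl⟩
    rw [hgz]
    exact Classification.RTwo.CoreKill.apply_mul hM hKGc ⟨1, by rw [pow_one]; exact hx⟩ hxKG hbal
      hχ hyK
  -- non-vanishing at `x`
  have hne : ∀ χ : IrrCharacter G, χ ∈ principalBlock M G → (χ : G → ℂ) x ≠ 0 := by
    intro χ hχ h0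
    have h1 := hχ x
    simp only [Blocks.Basic.centralChar_def, h0, mul_zero, zero_div, sub_zero, mul_one, div_one] at h1
    rw [Blocks.Local.memLocalIdeal_natCast_iff hM] at h1
    -- `p ∤ |G : C(x)|`
    obtain ⟨R, hR⟩ := (isPGroup_zpowers (pow_of_orderOf hx)).exists_le_sylow
    have hRc := h R
    have hRC : (R : Subgroup G) ≤ Subgroup.centralizer ({x} : Set G) := by
      intro r hr
      rw [Subgroup.mem_centralizer_singleton_iff]
      obtain ⟨g, hg⟩ := hRc.exists_generator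
      obtain ⟨i, hi⟩ := Subgroup.mem_zpowers_iff.1 (hg ⟨r, hr⟩)
      obtain ⟨j, hj⟩ := Subgroup.mem_zpowers_iff.1 (hg ⟨x, hR (Subgroup.mem_zpowers x)⟩)
      have h1 : Commute (g ^ i) (g ^ j) := (Commute.refl g).zpow_zpow i j
      rw [hi, hj] at h1
      exact congrArg Subtype.val h1.eq
    exact R.not_dvd_index (h1.trans (Subgroup.index_dvd_of_le hRC))
  -- `χ z = χ 1`
  have hval : ∀ χ : IrrCharacter G, χ ∈ principalBlock M G → (χ : G → ℂ) z = (χ : G → ℂ) 1 := by
    intro χ hχ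
    have h1 : (χ : G → ℂ) x * (χ : G → ℂ) z = (χ : G → ℂ) 1 * (χ : G → ℂ) (x * z) := by
      apply S0943.result
      intro x' z' hx' hz'
      obtain ⟨a, rfl⟩ := isConj_iff.1 hx'
      obtain ⟨b, rfl⟩ := isConj_iff.1 hz'
      have h4 : a * x * a⁻¹ * (b * z * b⁻¹) =
          a * (x * ((a⁻¹ * b) * z * (a⁻¹ * b)⁻¹)) * a⁻¹ := by group
      rw [h4, Blocks.Basic.irr_conj χ.2, key χ hχ]
      have h5 := key χ hχ 1
      rw [one_mul, inv_one, mul_one] at h5
      rw [h5]
    have h5 := key χ hχ 1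
    rw [one_mul, inv_one, mul_one] at h5
    rw [h5] at h1
    have h6 : (χ : G → ℂ) x * ((χ : G → ℂ) z - (χ : G → ℂ) 1) = 0 := by
      rw [mul_sub, h1]; ring
    rcases mul_eq_zero.1 h6 with h7 | h7
    · exact absurd h7 (hne χ hχ)
    · exact sub_eq_zero.1 h7
  obtain ⟨K, hKn, hK, hKp, -, -⟩ := S0938.result p M hM (principalBlock M G)
    (H267.ThmA.isPBlock_principal M) (H267.ThmA.one G)
    (H267.ThmA.mem_blk.1 (H267.ThmA.one_mem_blk hM))
  have hle : K ≤ pPrimeCore p G :=
    Lib.Cores.le_pPrimeCore hKn ((Nat.Prime.coprime_iff_not_dvd hp.out).2 hKp).symm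
  apply hle
  rw [← SetLike.mem_coe, hK]
  intro χ hχ
  exact hval χ hχ

/-- The case `p = 2`. -/
theorem mem_pPrimeCore_two (P : Sylow 2 G) (hP : IsCyclic ↥(P : Subgroup G)) {y : G}
    (hy : (orderOf y).Coprime 2) : y ∈ pPrimeCore 2 G := by
  obtain ⟨K, hK, hKP, hKm⟩ := CharactersDeep.QuatSylow.exists_two_complement P hP
  have hKn : K.Normal := by
    constructor
    intro k hk g
    rw [hKm] at hk ⊢
    have : orderOf (g * k * g⁻¹) = orderOf k :=
      orderOf_injective (MulAut.conj g).toMonoidHom (MulAut.conj g).injective k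
    rw [this]; exact hk
  have hKc : (Nat.card K).Coprime 2 := Nat.coprime_two_right.2 hK
  apply Lib.Cores.le_pPrimeCore hKn hKc
  rw [hKm]
  exact Nat.coprime_two_right.1 hy

/-- Version for simple groups. -/
theorem order_dvd_of_psolvable_pairs {G : Type u} [Group G] [Finite G] [IsSimpleGroup G]
    (_hna : ¬ IsMulCommutative G) {p : ℕ} [hp : Fact p.Prime] (P : Sylow p G)
    (hP : IsCyclic ↥(P : Subgroup G)) {x : G} (hx : orderOf x = p) {y : G}
    (hy : (orderOf y).Coprime p)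
    (h : ∀ g : G, IsPSolvable p ↥(Subgroup.closure ({x, g * y * g⁻¹} : Set G))) :
    y ^ ((Subgroup.centralizer ({x} : Set G)).relIndex
      (Subgroup.normalizer ((Subgroup.zpowers x : Subgroup G) : Set G))) = 1 := by
  have hn : (pPrimeCore p G).Normal := Lib.Cores.pPrimeCore_normal p
  have hO : pPrimeCore p G = ⊥ := by
    rcases IsSimpleGroup.eq_bot_or_eq_top_of_normal (pPrimeCore p G) hn with h2 | h2
    · exact h2
    · exfalso
      have h3 : x ∈ pPrimeCore p G := by rw [h2]; trivial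
      have h4 : orderOf x ∣ Nat.card (pPrimeCore p G) := Subgroup.orderOf_dvd_natCard _ h3
      rw [hx] at h4
      exact (Nat.Prime.coprime_iff_not_dvd hp.out).1 (Lib.Cores.pPrimeCore_coprime (G := G) p).symm h4
  by_cases hp2 : p = 2
  · subst hp2
    have h1 := mem_pPrimeCore_two P hP hy
    rw [hO, Subgroup.mem_bot] at h1
    rw [h1, one_pow]
  · have h1 := pow_mem_pPrimeCore (Cyc.of_sylow P hP) hp2 hx hy h
    rw [hO, Subgroup.mem_bot] at h1
    exact h1

/-- Version for simple groups, solvable pairs. -/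
theorem order_dvd_of_solvable_pairs {G : Type u} [Group G] [Finite G] [IsSimpleGroup G]
    (hna : ¬ IsMulCommutative G) {p : ℕ} [hp : Fact p.Prime] (P : Sylow p G)
    (hP : IsCyclic ↥(P : Subgroup G)) {x : G} (hx : orderOf x = p) {y : G}
    (hy : (orderOf y).Coprime p)
    (h : ∀ g : G, Group.IsSolvable ↥(Subgroup.closure ({x, g * y * g⁻¹} : Set G))) :
    y ^ ((Subgroup.centralizer ({x} : Set G)).relIndex
      (Subgroup.normalizer ((Subgroup.zpowers x : Subgroup G) : Set G))) = 1 :=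
  order_dvd_of_psolvable_pairs hna P hP hx hy fun g => by
    have := h g
    exact Lib.PSolvable.IsPSolvable_of_solvable p

end Cfsg.Agent.H509.CycBlock
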