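import Cfsg.Agent.H509.KitEven

/-!
# The Suzuki case: `|H| = q²`, `|Ω₁(H)| = q`, `|N(H)| = q² (q - 1)` implies `H` abelian
-/

set_option autoImplicit false
set_option linter.style.haveILetI false
set_option linter.dupNamespace false

namespace Cfsg.Agent.H509.Kit

open Subgroup Cfsg Cfsg.Agent.H509.TIC

variable {G : Type*} [Group G] [Finite G]

namespace Kit

variable {H : Subgroup G}

/-- every `x ∈ H` commutes with its `N(H)`-conjugates -/
theorem comm_conj (h : Tic G) (k : Kit H) (hnn : normalizer (H : Set G) ≠ ⊤) (h2 : 2 ∣ Nat.card H) {x g : G}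
    (hx : x ∈ H) (hg : g ∈ normalizer (H : Set G)) : x * (g * x * g⁻¹) = (g * x * g⁻¹) * x := by
  obtain ⟨z, hz, hzz, hz1, hzc⟩ := k.exists_z h2
  have h1 : g * z * g⁻¹ ∈ H := (Subgroup.mem_normalizer_iff.1 hg z).1 hz
  have h3 : (g * z * g⁻¹) * (g * z * g⁻¹) = 1 := by
    have : (g * z * g⁻¹) * (g * z * g⁻¹) = g * (z * z) * g⁻¹ := by group
    rw [this, hzz]; group
  have h4 := h.norm (w := x) (a := z) (g := g) (hzc x hx).symm hz1
    (k.central_inv hnn h2 h1 h3 hx).symm x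
  exact (h4.1 rfl).symm

/-- a coset of a normal 2-subgroup has a fixed point under an element of odd prime order -/
theorem exists_fixed {V : Subgroup G} {b : ℕ} (hV : Nat.card V = 2 ^ b) {g x : G} {p : ℕ} (hp : p.Prime)
    (hp2 : p ≠ 2) (hg : orderOf g = p) (hgV : ∀ v ∈ V, g * v * g⁻¹ ∈ V)
    (hgx : x⁻¹ * (g * x * g⁻¹) ∈ V) : ∃ v ∈ V, g * (x * v) = (x * v) * g := by
  classical
  haveI : Fact p.Prime := ⟨hp⟩
  -- the powers of `g` preserve the coset
  have key : ∀ a ∈ zpowers g, ∀ y : G, x⁻¹ * y ∈ V → x⁻¹ * (a * y * a⁻¹) ∈ V := by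
    have h1 : ∀ y : G, x⁻¹ * y ∈ V → x⁻¹ * (g * y * g⁻¹) ∈ V := by
      intro y hy
      have : x⁻¹ * (g * y * g⁻¹) = (x⁻¹ * (g * x * g⁻¹)) * (g * (x⁻¹ * y) * g⁻¹) := by group
      rw [this]
      exact V.mul_mem hgx (hgV _ hy)
    intro a ha
    obtain ⟨n, rfl⟩ := (mem_powers_iff_mem_zpowers.2 ha)
    induction n with
    | zero => intro y hy; simpa using hy
    | succ n ih =>
      intro y hy
      have h2 := h1 _ (ih (mem_powers_iff_mem_zpowers.1 ⟨n, rfl⟩) y hy)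
      have : g ^ (n + 1) * y * (g ^ (n + 1))⁻¹ = g * (g ^ n * y * (g ^ n)⁻¹) * g⁻¹ := by
        rw [pow_succ']; group
      show x⁻¹ * (g ^ (n + 1) * y * (g ^ (n + 1))⁻¹) ∈ V
      rw [this]; exact h2
  let X := {y : G // x⁻¹ * y ∈ V}
  letI act : MulAction (zpowers g) X :=
    { smul := fun a y => ⟨(a : G) * y.1 * (a : G)⁻¹, key a a.2 y.1 y.2⟩
      one_smul := fun y => Subtype.ext (by show (1 : G) * y.1 * (1 : G)⁻¹ = y.1; simp)
      mul_smul := fun a b y => Subtype.ext (by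
        show ((a : G) * b) * y.1 * ((a : G) * b)⁻¹ = a * (b * y.1 * (b : G)⁻¹) * (a : G)⁻¹
        group) }
  have hX : Nat.card X = 2 ^ b := by
    rw [← hV]
    exact Nat.card_congr
      { toFun := fun y => ⟨x⁻¹ * y.1, y.2⟩
        invFun := fun v => ⟨x * v.1, by rw [inv_mul_cancel_left]; exact v.2⟩
        left_inv := fun y => Subtype.ext (by simp)
        right_inv := fun v => Subtype.ext (by simp) }
  have hpg : IsPGroup p (zpowers g) := by
    apply IsPGroup.of_card (n := 1)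
    rw [Nat.card_zpowers, hg, pow_one]
  obtain ⟨y, hy⟩ := hpg.nonempty_fixed_point_of_prime_not_dvd_card (α := X) (by
    rw [hX]
    intro h1
    exact hp2 ((Nat.prime_dvd_prime_iff_eq hp Nat.prime_two).1 (hp.dvd_of_dvd_pow h1)))
  refine ⟨x⁻¹ * y.1, y.2, ?_⟩
  have h1 := congrArg Subtype.val (hy ⟨g, mem_zpowers g⟩)
  have h2 : g * y.1 * g⁻¹ = y.1 := h1
  rw [mul_inv_cancel_left]
  exact mul_inv_eq_iff_eq_mul.1 h2

theorem comm_of_suzuki (h : Tic G) (k : Kit H) (hnn : normalizer (H : Set G) ≠ ⊤) (h2 : 2 ∣ Nat.card H)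
    {b : ℕ} (hb : 1 ≤ b) (hH : Nat.card H = (2 ^ b) ^ 2) (hV : Nat.card (k.om hnn h2) = 2 ^ b) {x y : G}
    (hx : x ∈ H) (hy : y ∈ H) : x * y = y * x := by
  classical
  set V := k.om hnn h2 with hVdef
  have hVc : ∀ v ∈ V, ∀ y ∈ H, y * v = v * y := fun v hv y hy => k.central_inv hnn h2 hv.1 hv.2 hy
  by_cases hxV : x ∈ V
  · exact (hVc x hxV y hy).symm
  by_cases hyV : y ∈ V
  · exact hVc y hyV x hx
  set N := normalizer (H : Set G) with hNdef
  have hN : Nat.card N = (2 ^ b) ^ 2 * (2 ^ b - 1) := by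
    rw [hNdef, k.card_normalizer hnn h2, hH, hV]
  have hgV : ∀ g ∈ N, ∀ v ∈ V, g * v * g⁻¹ ∈ V := by
    intro g hg v hv
    refine ⟨(Subgroup.mem_normalizer_iff.1 hg v).1 hv.1, ?_⟩
    have : (g * v * g⁻¹) * (g * v * g⁻¹) = g * (v * v) * g⁻¹ := by group
    rw [this, hv.2]; group
  have hgH : ∀ g ∈ N, ∀ v ∈ H, g * v * g⁻¹ ∈ H := fun g hg v hv =>
    (Subgroup.mem_normalizer_iff.1 hg v).1 hv
  -- the stabilizer of the coset `x V`
  let K : Subgroup N :=
    { carrier := {g | x⁻¹ * ((g : G) * x * (g : G)⁻¹) ∈ V}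
      one_mem' := by
        show x⁻¹ * ((1 : G) * x * (1 : G)⁻¹) ∈ V
        simp
      mul_mem' := by
        intro a b ha hb
        show x⁻¹ * (((a : G) * b) * x * ((a : G) * b)⁻¹) ∈ V
        have : x⁻¹ * (((a : G) * b) * x * ((a : G) * b)⁻¹) =
          (x⁻¹ * ((a : G) * x * (a : G)⁻¹)) * (a * (x⁻¹ * ((b : G) * x * (b : G)⁻¹)) * (a : G)⁻¹) := by group
        rw [this]
        exact V.mul_mem ha (hgV a a.2 _ hb)
      inv_mem' := by
        intro a ha
        show x⁻¹ * ((a : G)⁻¹ * x * ((a : G)⁻¹)⁻¹) ∈ V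
        have : x⁻¹ * ((a : G)⁻¹ * x * ((a : G)⁻¹)⁻¹) =
          (a : G)⁻¹ * (x⁻¹ * ((a : G) * x * (a : G)⁻¹))⁻¹ * ((a : G)⁻¹)⁻¹ := by group
        rw [this]
        exact hgV _ (N.inv_mem a.2) _ (V.inv_mem ha) }
  have hKmem : ∀ g : N, g ∈ K ↔ x⁻¹ * ((g : G) * x * (g : G)⁻¹) ∈ V := fun g => Iff.rfl
  -- `K` is a 2-group
  have hK : ∃ j, Nat.card K = 2 ^ j := by
    refine ⟨_, Nat.eq_prime_pow_of_unique_prime_dvd (p := 2) Nat.card_pos.ne' ?_⟩
    intro p hp hpK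
    by_contra hp2
    haveI : Fact p.Prime := ⟨hp⟩
    obtain ⟨g, hg⟩ := exists_prime_orderOf_dvd_card' p hpK
    have hg1 : orderOf ((g : N) : G) = p := by rw [Subgroup.orderOf_coe, Subgroup.orderOf_coe, hg]
    obtain ⟨v, hv, hgv⟩ := exists_fixed (V := V) hV hp hp2 hg1 (hgV _ (g : N).2) g.2
    have hxv1 : x * v ≠ 1 := by
      intro h1
      apply hxV
      rw [mul_eq_one_iff_eq_inv] at h1
      rw [h1]
      exact V.inv_mem hv
    have h3 : ((g : N) : G) ∈ H := k.cen (x * v) (H.mul_mem hx hv.1) hxv1 _ hgv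
    have h4 : p ∣ Nat.card H := by
      have h5 := orderOf_dvd_natCard (⟨_, h3⟩ : H)
      rwa [← Subgroup.orderOf_coe, hg1] at h5
    rw [hH, ← pow_mul] at h4
    exact hp2 ((Nat.prime_dvd_prime_iff_eq hp Nat.prime_two).1 (hp.dvd_of_dvd_pow h4))
  obtain ⟨j, hj⟩ := hK
  have hQ : 2 ≤ 2 ^ b := by
    calc 2 = 2 ^ 1 := rfl
      _ ≤ 2 ^ b := Nat.pow_le_pow_right (by norm_num) hb
  have hidx : 2 ^ b - 1 ≤ K.index := by
    have h3 := K.card_mul_index
    rw [hj, hN] at h3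
    have h4 : Nat.Coprime (2 ^ j) (2 ^ b - 1) := by
      apply Nat.Coprime.pow_left
      rw [Nat.coprime_two_left]
      have : Even (2 ^ b) := (Nat.even_pow.2 ⟨even_two, by omega⟩)
      exact Nat.Even.sub_odd (by omega) this odd_one
    have h5 : 2 ^ b - 1 ∣ K.index := by
      apply Nat.Coprime.dvd_of_dvd_mul_left h4.symm
      rw [h3]
      exact dvd_mul_left _ _
    exact Nat.le_of_dvd (Nat.pos_of_ne_zero K.index_ne_zero_of_finite) h5
  -- the map `N / K → (H / V) ∖ 1`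
  set V' := V.subgroupOf H with hV'
  have hVH : V ≤ H := k.om_le hnn h2
  let f : (N ⧸ K) → {c : H ⧸ V' // c ≠ QuotientGroup.mk (1 : H)} :=
    Quotient.lift (fun g : N => (⟨QuotientGroup.mk (⟨(g : G) * x * (g : G)⁻¹, hgH g g.2 x hx⟩ : H), by
        intro h3
        rw [eq_comm, QuotientGroup.eq] at h3
        have h4 : (g : G) * x * (g : G)⁻¹ ∈ V := by
          have := Subgroup.mem_subgroupOf.1 h3
          simpa using this
        apply hxV
        have h5 := hgV _ (N.inv_mem g.2) _ h4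
        have : (g : G)⁻¹ * ((g : G) * x * (g : G)⁻¹) * ((g : G)⁻¹)⁻¹ = x := by group
        rwa [this] at h5⟩ : {c : H ⧸ V' // c ≠ QuotientGroup.mk (1 : H)}))
      (by
        intro a c hac
        have h3 : a⁻¹ * c ∈ K := QuotientGroup.leftRel_apply.1 hac
        rw [hKmem] at h3
        apply Subtype.ext
        apply QuotientGroup.eq.2
        rw [Subgroup.mem_subgroupOf]
        show ((a : G) * x * (a : G)⁻¹)⁻¹ * ((c : G) * x * (c : G)⁻¹) ∈ V
        have h4 := hgV a a.2 _ h3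
        have : (a : G) * (x⁻¹ * ((a⁻¹ * c : N) * x * ((a⁻¹ * c : N) : G)⁻¹)) * (a : G)⁻¹ =
          ((a : G) * x * (a : G)⁻¹)⁻¹ * ((c : G) * x * (c : G)⁻¹) := by
          push_cast; group
        rwa [this] at h4)
  have hf : Function.Injective f := by
    intro a c hac
    obtain ⟨a, rfl⟩ := QuotientGroup.mk_surjective a
    obtain ⟨c, rfl⟩ := QuotientGroup.mk_surjective c
    have h3 := QuotientGroup.eq.1 (congrArg Subtype.val hac)
    rw [Subgroup.mem_subgroupOf] at h3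
    have h4 : ((a : G) * x * (a : G)⁻¹)⁻¹ * ((c : G) * x * (c : G)⁻¹) ∈ V := h3
    rw [QuotientGroup.eq, hKmem]
    have h5 := hgV _ (N.inv_mem a.2) _ h4
    have : (a : G)⁻¹ * (((a : G) * x * (a : G)⁻¹)⁻¹ * ((c : G) * x * (c : G)⁻¹)) * ((a : G)⁻¹)⁻¹ =
      x⁻¹ * ((a⁻¹ * c : N) * x * ((a⁻¹ * c : N) : G)⁻¹) := by push_cast; group
    rwa [this] at h5
  have hcard : Nat.card {c : H ⧸ V' // c ≠ QuotientGroup.mk (1 : H)} = 2 ^ b - 1 := by
    have h3 : Nat.card (H ⧸ V') = 2 ^ b := by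
      have h4 := Subgroup.card_mul_index V'
      rw [Subgroup.index, Nat.card_congr (Subgroup.subgroupOfEquivOfLe hVH).toEquiv, hV, hH, pow_two] at h4
      exact Nat.eq_of_mul_eq_mul_left (by positivity) h4
    have h4 : {c : H ⧸ V' | c ≠ QuotientGroup.mk (1 : H)} = Set.univ \ {QuotientGroup.mk (1 : H)} := by
      ext c; simp
    have h5 : Nat.card {c : H ⧸ V' // c ≠ QuotientGroup.mk (1 : H)} =
        ({c : H ⧸ V' | c ≠ QuotientGroup.mk (1 : H)}).ncard := by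
      rw [← Nat.card_coe_set_eq]; rfl
    rw [h5, h4, Set.ncard_sdiff_singleton_of_mem (Set.mem_univ _), Set.ncard_univ, h3]
  have hbij : Function.Bijective f := by
    haveI : Finite (H ⧸ V') := inferInstance
    refine hf.bijective_of_nat_card_le ?_
    rw [hcard]
    exact hidx
  -- the coset of `y`
  obtain ⟨q, hq⟩ := hbij.2 ⟨QuotientGroup.mk (⟨y, hy⟩ : H), by
    intro h3
    rw [eq_comm, QuotientGroup.eq] at h3
    apply hyV
    have := Subgroup.mem_subgroupOf.1 h3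
    simpa using this⟩
  obtain ⟨g, rfl⟩ := QuotientGroup.mk_surjective q
  have h3 := QuotientGroup.eq.1 (congrArg Subtype.val hq)
  rw [Subgroup.mem_subgroupOf] at h3
  have h4 : ((g : G) * x * (g : G)⁻¹)⁻¹ * y ∈ V := h3
  have h5 := k.comm_conj h hnn h2 hx g.2
  have h6 := hVc _ h4 x hx
  have h7 : y = ((g : G) * x * (g : G)⁻¹) * (((g : G) * x * (g : G)⁻¹)⁻¹ * y) := by group
  rw [h7, ← mul_assoc, h5, mul_assoc, h6, ← mul_assoc]

end Kit

end Cfsg.Agent.H509.Kit
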