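import Cfsg.Agent.H509.Kit
import Cfsg.Agent.Cit.CloEven

/-!
# The nilpotent TI Hall subgroups of even order

For `Kit H`, `|H|` even and `H` not normal:

* `central_inv` : the involutions of `H` are central in `H`, and conjugate in `N(H)`;
* `card_normalizer` : `|N(H)| = |H| (2^b - 1)`, where `2^b` is the number of elements `x` of `H` with `x² = 1`.
-/

set_option autoImplicit false
set_option linter.style.haveILetI false
set_option linter.dupNamespace false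

namespace Cfsg.Agent.H509.Kit

open Subgroup Cfsg Cfsg.Agent.H509.TIC

variable {G : Type*} [Group G] [Finite G]

namespace Kit

variable {H : Subgroup G}

/-- an involution of `H` central in `H` -/
theorem exists_z (k : Kit H) (h2 : 2 ∣ Nat.card H) :
    ∃ z ∈ H, z * z = 1 ∧ z ≠ 1 ∧ ∀ y ∈ H, y * z = z * y := by
  haveI := k.nil
  haveI : Fact (Nat.Prime 2) := ⟨Nat.prime_two⟩
  obtain ⟨z, hz, hc⟩ := OddOrderLocal.CNMaxNil.exists_central_orderOf_eq (G := H) 2 h2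
  refine ⟨z, z.2, ?_, ?_, ?_⟩
  · have := pow_orderOf_eq_one z
    rw [hz, pow_two] at this
    exact congrArg Subtype.val this
  · intro h1
    have h3 : z = 1 := Subtype.ext h1
    rw [h3, orderOf_one] at hz
    omega
  · intro y hy
    exact (congrArg Subtype.val (hc ⟨y, hy⟩)).symm

/-- the involutions of `H` are conjugate in `N(H)` -/
theorem conj_inv (k : Kit H) (hnn : normalizer (H : Set G) ≠ ⊤) {z u : G} (hz : z ∈ H) (hzz : z * z = 1)
    (hz1 : z ≠ 1) (hu : u ∈ H) (huu : u * u = 1) (hu1 : u ≠ 1) :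
    ∃ c ∈ normalizer (H : Set G), c * z * c⁻¹ = u := by
  obtain ⟨g, hg⟩ : ∃ g, g ∉ normalizer (H : Set G) := by
    by_contra hno
    push Not at hno
    exact hnn ((Subgroup.eq_top_iff' _).2 hno)
  have hv : g * z * g⁻¹ ∉ H := fun h1 => hg (k.ti g z hz h1 hz1)
  have hvv : (g * z * g⁻¹) * (g * z * g⁻¹) = 1 := by
    have : (g * z * g⁻¹) * (g * z * g⁻¹) = g * (z * z) * g⁻¹ := by group
    rw [this, hzz]; group
  have hodd : Odd (orderOf (u * (g * z * g⁻¹))) := by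
    by_contra hne
    obtain ⟨w, -, hw, hw1, hwu, hwv, -⟩ := Cit.CloEven.exists_mid huu hvv (orderOf_pos _) hne
    have h1 : w ∈ H := k.cen u hu hu1 w hwu
    exact hv (k.cen w h1 hw1 _ hwv.symm)
  obtain ⟨x, -, hx⟩ := Cit.CloEven.exists_swap_of_odd huu hvv hodd
  -- `x u x⁻¹ = g z g⁻¹`
  have h1 : (x⁻¹ * g) * z * (x⁻¹ * g)⁻¹ = u := by
    have : (x⁻¹ * g) * z * (x⁻¹ * g)⁻¹ = x⁻¹ * (g * z * g⁻¹) * x := by group
    rw [this, ← hx]; group
  exact ⟨x⁻¹ * g, k.ti _ z hz (by rw [h1]; exact hu) hz1, h1⟩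

/-- the involutions of `H` are central in `H` -/
theorem central_inv (k : Kit H) (hnn : normalizer (H : Set G) ≠ ⊤) (h2 : 2 ∣ Nat.card H) {u : G}
    (hu : u ∈ H) (huu : u * u = 1) {y : G} (hy : y ∈ H) : y * u = u * y := by
  by_cases hu1 : u = 1
  · rw [hu1, mul_one, one_mul]
  obtain ⟨z, hz, hzz, hz1, hzc⟩ := k.exists_z h2
  obtain ⟨c, hc, hcu⟩ := k.conj_inv hnn hz hzz hz1 hu huu hu1
  have h1 : c⁻¹ * y * c ∈ H := by
    have h3 := (Subgroup.mem_normalizer_iff.1 ((normalizer (H : Set G)).inv_mem hc) y).1 hy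
    rwa [inv_inv] at h3
  have h3 := hzc _ h1
  rw [← hcu]
  calc y * (c * z * c⁻¹) = c * (c⁻¹ * y * c * z) * c⁻¹ := by group
    _ = c * (z * (c⁻¹ * y * c)) * c⁻¹ := by rw [h3]
    _ = c * z * c⁻¹ * y := by group

/-- `Ω₁` of the Sylow 2-subgroup of `H` -/
def om (k : Kit H) (hnn : normalizer (H : Set G) ≠ ⊤) (h2 : 2 ∣ Nat.card H) : Subgroup G where
  carrier := {x | x ∈ H ∧ x * x = 1}
  one_mem' := ⟨H.one_mem, one_mul 1⟩
  mul_mem' := by
    rintro a b ⟨ha, haa⟩ ⟨hb, hbb⟩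
    refine ⟨H.mul_mem ha hb, ?_⟩
    have h1 := k.central_inv hnn h2 ha haa hb
    calc a * b * (a * b) = a * (b * a) * b := by group
      _ = a * (a * b) * b := by rw [h1]
      _ = (a * a) * (b * b) := by group
      _ = 1 := by rw [haa, hbb, one_mul]
  inv_mem' := by
    rintro a ⟨ha, haa⟩
    refine ⟨H.inv_mem ha, ?_⟩
    rw [← mul_inv_rev, haa, inv_one]

theorem mem_om (k : Kit H) (hnn : normalizer (H : Set G) ≠ ⊤) (h2 : 2 ∣ Nat.card H) {x : G} :
    x ∈ k.om hnn h2 ↔ x ∈ H ∧ x * x = 1 := Iff.rfl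

theorem om_le (k : Kit H) (hnn : normalizer (H : Set G) ≠ ⊤) (h2 : 2 ∣ Nat.card H) :
    k.om hnn h2 ≤ H := fun _ hx => hx.1

theorem card_om (k : Kit H) (hnn : normalizer (H : Set G) ≠ ⊤) (h2 : 2 ∣ Nat.card H) :
    ∃ b : ℕ, Nat.card (k.om hnn h2) = 2 ^ b := by
  haveI : Fact (Nat.Prime 2) := ⟨Nat.prime_two⟩
  have : IsPGroup 2 (k.om hnn h2) := by
    rintro ⟨x, hx⟩
    exact ⟨1, Subtype.ext (by push_cast; rw [pow_two]; exact hx.2)⟩
  exact IsPGroup.iff_card.1 this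

/-- `|N(H)| = |H| (|Ω₁| - 1)` -/
theorem card_normalizer (k : Kit H) (hnn : normalizer (H : Set G) ≠ ⊤) (h2 : 2 ∣ Nat.card H) :
    Nat.card (normalizer (H : Set G)) = Nat.card H * (Nat.card (k.om hnn h2) - 1) := by
  classical
  obtain ⟨z, hz, hzz, hz1, hzc⟩ := k.exists_z h2
  set N := normalizer (H : Set G) with hN
  have hHN : H ≤ N := le_normalizer
  -- the bijection `N / H → Ω₁ ∖ 1`
  have hmem : ∀ n : N, (n : G) * z * (n : G)⁻¹ ∈ {x : G | x ∈ k.om hnn h2 ∧ x ≠ 1} := by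
    intro n
    refine ⟨⟨(Subgroup.mem_normalizer_iff.1 n.2 z).1 hz, ?_⟩, ?_⟩
    · have : ((n : G) * z * (n : G)⁻¹) * ((n : G) * z * (n : G)⁻¹) = n * (z * z) * (n : G)⁻¹ := by group
      rw [this, hzz]; group
    · intro h1
      apply hz1
      have : z = (n : G)⁻¹ * ((n : G) * z * (n : G)⁻¹) * n := by group
      rw [this, h1]; group
  let f : (N ⧸ H.subgroupOf N) → {x : G | x ∈ k.om hnn h2 ∧ x ≠ 1} :=
    Quotient.lift (fun n : N => (⟨(n : G) * z * (n : G)⁻¹, hmem n⟩ : {x : G | x ∈ k.om hnn h2 ∧ x ≠ 1}))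
      (by
        intro a b hab
        have h1 : a⁻¹ * b ∈ H.subgroupOf N := QuotientGroup.leftRel_apply.1 hab
        have h3 : (a : G)⁻¹ * b ∈ H := h1
        have h4 := hzc _ h3
        apply Subtype.ext
        show (a : G) * z * (a : G)⁻¹ = (b : G) * z * (b : G)⁻¹
        calc (a : G) * z * (a : G)⁻¹ = a * (z * ((a : G)⁻¹ * b)) * (b : G)⁻¹ := by group
          _ = a * (((a : G)⁻¹ * b) * z) * (b : G)⁻¹ := by rw [h4]
          _ = (b : G) * z * (b : G)⁻¹ := by group)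
  have hf : Function.Bijective f := by
    constructor
    · intro a b hab
      obtain ⟨a, rfl⟩ := QuotientGroup.mk_surjective a
      obtain ⟨b, rfl⟩ := QuotientGroup.mk_surjective b
      have h1 : (a : G) * z * (a : G)⁻¹ = (b : G) * z * (b : G)⁻¹ := congrArg Subtype.val hab
      rw [QuotientGroup.eq]
      show (a : G)⁻¹ * b ∈ H
      apply k.cen z hz hz1
      calc (a : G)⁻¹ * b * z = (a : G)⁻¹ * (b * z * (b : G)⁻¹) * b := by group
        _ = (a : G)⁻¹ * ((a : G) * z * (a : G)⁻¹) * b := by rw [h1]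
        _ = z * ((a : G)⁻¹ * b) := by group
    · rintro ⟨u, hu, hu1⟩
      obtain ⟨c, hc, hcu⟩ := k.conj_inv hnn hz hzz hz1 hu.1 hu.2 hu1
      exact ⟨QuotientGroup.mk ⟨c, hc⟩, Subtype.ext hcu⟩
  have h3 := Nat.card_congr (Equiv.ofBijective f hf)
  have h4 : Nat.card {x : G | x ∈ k.om hnn h2 ∧ x ≠ 1} = Nat.card (k.om hnn h2) - 1 := by
    have h5 : {x : G | x ∈ k.om hnn h2 ∧ x ≠ 1} = (k.om hnn h2 : Set G) \ {1} := by
      ext x; simp
    rw [Nat.card_coe_set_eq, h5, Set.ncard_sdiff_singleton_of_mem (k.om hnn h2).one_mem,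
      ← Nat.card_coe_set_eq]
    rfl
  rw [h4] at h3
  have h5 := Subgroup.card_mul_index (H.subgroupOf N)
  rw [Subgroup.index, h3] at h5
  rw [← h5, Nat.card_congr (Subgroup.subgroupOfEquivOfLe hHN).toEquiv]

end Kit

end Cfsg.Agent.H509.Kit
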