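import Cfsg.Agent.H509.MonWG
import Cfsg.Agent.H840.G2
import Cfsg.Agent.H978.NB.Fi24

/-!
# `NI M Fi₂₄'` for a 3-modular ideal `M` (helper509, for S4095)

`C(l k, zc c2) = ⟨l k⟩ × ⟨zc c2⟩ × G₂(3)` in `Fi₂₄'`.
-/

set_option autoImplicit false

namespace Cfsg.Agent.H509.MonW

open Cfsg Subgroup
open Cfsg.Agent.H652.Four

/-- the subgroup of the `a ^ i * b ^ j` -/
def pairSub {G : Type*} [Group G] {a b : G} (h : Commute a b) : Subgroup G where
  carrier := {x | ∃ i j : ℤ, x = a ^ i * b ^ j}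
  mul_mem' := by
    rintro _ _ ⟨i, j, rfl⟩ ⟨k, l, rfl⟩
    refine ⟨i + k, j + l, ?_⟩
    rw [zpow_add, zpow_add]
    have h1 : b ^ j * a ^ k = a ^ k * b ^ j := (h.zpow_zpow k j).symm.eq
    calc a ^ i * b ^ j * (a ^ k * b ^ l) = a ^ i * (b ^ j * a ^ k) * b ^ l := by group
      _ = a ^ i * (a ^ k * b ^ j) * b ^ l := by rw [h1]
      _ = a ^ i * a ^ k * (b ^ j * b ^ l) := by group
  one_mem' := ⟨0, 0, by rw [zpow_zero, zpow_zero, mul_one]⟩
  inv_mem' := by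
    rintro _ ⟨i, j, rfl⟩
    refine ⟨-i, -j, ?_⟩
    rw [mul_inv_rev, zpow_neg, zpow_neg]
    exact ((h.zpow_zpow i j).symm.inv_inv).eq

theorem mem_pairSub {G : Type*} [Group G] {a b : G} {h : Commute a b} {x : G} :
    x ∈ pairSub h ↔ ∃ i j : ℤ, x = a ^ i * b ^ j := Iff.rfl

/-- `C_G(a, b) = ⟨a⟩ ⟨b⟩ K` -/
theorem NI.of_pair {G : Type*} [Group G] [Finite G] {M : Ideal AlgInt} (hM : IsPModular 3 M) {a b : G}
    (hab : Commute a b) (ha : a ^ 3 = 1) (hb : b ^ 3 = 1) {K : Subgroup G} (haK : ∀ y ∈ K, Commute a y)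
    (hbK : ∀ y ∈ K, Commute b y) (hK : center ↥K = ⊥)
    (hC : ∀ g : G, Commute g a → Commute g b → ∃ i j : ℤ, ∃ y ∈ K, g = a ^ i * b ^ j * y) (h : NI M ↥K) :
    NI M G := by
  have hcm : ∀ i j : ℤ, ∀ g : G, Commute g a → Commute g b → Commute g (a ^ i * b ^ j) := fun i j g h1 h2 =>
    (h1.zpow_right i).mul_right (h2.zpow_right j)
  have hP : IsPGroup 3 ↥(pairSub hab) := by
    rintro ⟨x, i, j, rfl⟩
    refine ⟨1, Subtype.ext ?_⟩
    change (a ^ i * b ^ j) ^ 3 ^ 1 = 1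
    rw [pow_one, (hab.zpow_zpow i j).mul_pow, ← zpow_natCast (a ^ i), ← zpow_natCast (b ^ j), ← zpow_mul,
      ← zpow_mul, mul_comm i, mul_comm j, zpow_mul, zpow_mul, zpow_natCast, zpow_natCast, ha, hb, one_zpow, one_zpow,
      mul_one]
  have hPC : pairSub hab ≤ centralizer ((pairSub hab : Subgroup G) : Set G) := by
    rintro _ ⟨i, j, rfl⟩
    rw [mem_centralizer_iff]
    rintro _ ⟨k, l, rfl⟩
    refine (hcm i j _ ?_ ?_).eq
    · exact (((Commute.refl a).zpow_left k).mul_left (hab.symm.zpow_left l))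
    · exact ((hab.zpow_left k).mul_left ((Commute.refl b).zpow_left l))
  have haP : a ∈ pairSub hab := ⟨1, 0, by rw [zpow_one, zpow_zero, mul_one]⟩
  have hbP : b ∈ pairSub hab := ⟨0, 1, by rw [zpow_one, zpow_zero, one_mul]⟩
  have hKC : K ≤ centralizer ((pairSub hab : Subgroup G) : Set G) := by
    intro y hy
    rw [mem_centralizer_iff]
    rintro _ ⟨k, l, rfl⟩
    exact ((hcm k l y (haK y hy).symm (hbK y hy).symm).symm).eq
  set C := centralizer ((pairSub hab : Subgroup G) : Set G) with hCdef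
  have hnor : ((pairSub hab).subgroupOf C).Normal := by
    refine ⟨fun x hx g => ?_⟩
    rw [mem_subgroupOf] at hx ⊢
    have h1 : (g : G) * x * (g : G)⁻¹ = x := by
      rw [← mem_centralizer_iff.1 g.2 x hx]
      group
    change (g : G) * x * (g : G)⁻¹ ∈ pairSub hab
    rw [h1]
    exact hx
  let ψ : ↥K →* ↥C ⧸ ((pairSub hab).subgroupOf C) := (QuotientGroup.mk' _).comp (inclusion hKC)
  have hψi : Function.Injective ψ := by
    refine (injective_iff_map_eq_one ψ).2 fun k hk => ?_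
    have h1 : inclusion hKC k ∈ (pairSub hab).subgroupOf C := (QuotientGroup.eq_one_iff _).1 hk
    rw [mem_subgroupOf] at h1
    change (k : G) ∈ pairSub hab at h1
    have h2 : k ∈ center ↥K := by
      rw [mem_center_iff]
      intro g
      apply Subtype.ext
      exact (mem_centralizer_iff.1 (hKC g.2) k h1).symm
    rw [hK, mem_bot] at h2
    exact h2
  have hψs : Function.Surjective ψ := by
    intro q
    obtain ⟨c, rfl⟩ := QuotientGroup.mk'_surjective _ q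
    obtain ⟨i, j, y, hy, hc⟩ := hC (c : G) (mem_centralizer_iff.1 c.2 a haP).symm (mem_centralizer_iff.1 c.2 b hbP).symm
    refine ⟨⟨y, hy⟩, ?_⟩
    change (QuotientGroup.mk (inclusion hKC ⟨y, hy⟩) : ↥C ⧸ ((pairSub hab).subgroupOf C)) = QuotientGroup.mk c
    rw [QuotientGroup.eq, mem_subgroupOf]
    change (y : G)⁻¹ * (c : G) ∈ pairSub hab
    refine ⟨i, j, ?_⟩
    rw [hc, ← (hcm i j y (haK y hy).symm (hbK y hy).symm).eq, inv_mul_cancel_left]
  have hq : NI M (↥C ⧸ ((pairSub hab).subgroupOf C)) :=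
    NI.of_equiv (MulEquiv.ofBijective ψ ⟨hψi, hψs⟩).symm h
  exact NI.section hM (by norm_num) hP (φ := QuotientGroup.mk' _) (QuotientGroup.mk'_surjective _) hPC
    (QuotientGroup.ker_mk' _) hq

end Cfsg.Agent.H509.MonW

namespace Cfsg.Agent.H509.MonW.Fi

open Cfsg Subgroup
open Cfsg.Agent.H509.MonW
open Cfsg.Agent.H840.Lk Cfsg.Agent.R08.FiTwentyFour
open Cfsg.Agent.Fischer.Fi24RepDef Cfsg.Agent.Fischer.Fi24Rep
open Cfsg.Agent.H840.NormX
open Cfsg.Spor (Fi24 Fi24')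

theorem simple_Cc : IsSimpleGroup ↥Cc := by
  obtain ⟨e⟩ := Cfsg.Agent.H840.G2.iso_Cc
  have : IsSimpleGroup ↥(Cfsg.Lie.chevG2.group (ZMod 3)) := G23.isSimpleGroup
  exact e.isSimpleGroup

theorem Cc_le : Cc ≤ commutator Fi24 := by
  let q : ↥Cc →* Fi24 ⧸ commutator Fi24 := (QuotientGroup.mk' (commutator Fi24)).comp Cc.subtype
  have hs := simple_Cc
  have hq : q.ker = ⊤ := by
    rcases (inferInstance : q.ker.Normal).eq_bot_or_eq_top with h | h
    · exfalso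
      have h1 : Nat.card ↥Cc ∣ Nat.card (Fi24 ⧸ commutator Fi24) := by
        rw [Nat.card_congr (MonoidHom.ofInjective ((MonoidHom.ker_eq_bot_iff q).1 h)).toEquiv]
        exact card_subgroup_dvd_card _
      have h2 : Nat.card (Fi24 ⧸ commutator Fi24) = 2 := index_commutator
      rw [h2, card_Cc] at h1
      revert h1
      norm_num
    · exact h
  intro x hx
  have h1 : (⟨x, hx⟩ : ↥Cc) ∈ q.ker := by rw [hq]; exact mem_top _
  exact (QuotientGroup.eq_one_iff _).1 h1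

theorem center_Cc : center ↥Cc = ⊥ := by
  have hs := simple_Cc
  rcases (inferInstance : (center ↥Cc).Normal).eq_bot_or_eq_top with h | h
  · exact h
  · exfalso
    have h1 : (Nat.card ↥Cc).Prime := by
      let _ : CommGroup ↥Cc := { (inferInstance : Group ↥Cc) with
        mul_comm := fun a b => mem_center_iff.1 (h ▸ mem_top b : b ∈ center ↥Cc) a }
      exact IsSimpleGroup.prime_card (α := ↥Cc)
    rw [card_Cc] at h1
    revert h1
    norm_num

theorem mem_zc : zc * c2 ∈ commutator Fi24 :=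
  (Subgroup.mul_mem_iff_of_index_two index_commutator).2 (iff_of_false (odd zc_mem) (odd c2_mem))

/-- the elements `a = l k` and `b = zc c2` of `Fi₂₄'` -/
noncomputable def ea : Fi24' := ⟨gen .l * gen .k, Cfsg.Agent.H978.NB.FiTF.mem_lk⟩

noncomputable def eb : Fi24' := ⟨zc * c2, mem_zc⟩

theorem comm_ab : Commute (gen .l * gen .k) (zc * c2) := by
  obtain ⟨-, h1, h2⟩ := zc_Dlk
  obtain ⟨-, h3, h4⟩ := c2_Dlk
  exact (h1.mul_left h2).mul_right (h3.mul_left h4)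

theorem comm_l : Commute (zc * c2) (gen .l) := by
  obtain ⟨-, h1, h2⟩ := zc_Dlk
  obtain ⟨-, h3, h4⟩ := c2_Dlk
  exact (h1.mul_right h3).symm

theorem comm_k : Commute (zc * c2) (gen .k) := by
  obtain ⟨-, h1, h2⟩ := zc_Dlk
  obtain ⟨-, h3, h4⟩ := c2_Dlk
  exact (h2.mul_right h4).symm

theorem cube_lk : (gen .l * gen .k) ^ 3 = 1 :=
  cube (fd Cfsg.Agent.H830.Con24.fgroup) (Cfsg.Agent.H840.Lk.gen_mem .l) (Cfsg.Agent.H840.Lk.gen_mem .k) not_comm_lk

theorem cube_zc : (zc * c2) ^ 3 = 1 :=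
  cube (fd Cfsg.Agent.H830.Con24.fgroup) zc_mem c2_mem nc_zc2

theorem mem_Cc {g : Fi24} : g ∈ Cc ↔ (Commute g (gen .l) ∧ Commute g (gen .k)) ∧ Commute g zc ∧ Commute g c2 := by
  unfold Cc Clz
  rw [mem_inf, mem_inf, mem_Clk, mem_centralizer_singleton_iff, mem_centralizer_singleton_iff, and_assoc]
  exact Iff.rfl

theorem decomp {g : Fi24} (h1 : Commute g (gen .l * gen .k)) (h2 : Commute g (zc * c2)) :
    ∃ i j : ℤ, ∃ y ∈ Cc, g = (gen .l * gen .k) ^ i * (zc * c2) ^ j * y := by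
  have hfin : Finite Fi24 := Cfsg.Agent.R08.FiTwentyFour.finite_Fi24
  obtain ⟨x, hx, y, hy, rfl⟩ := cent_mul Cfsg.Agent.H830.Con24.fgroup (Cfsg.Agent.H840.Lk.gen_mem .l)
    (Cfsg.Agent.H840.Lk.gen_mem .k) not_comm_lk h1
  obtain ⟨i, rfl⟩ := mem_zpowers_iff.1 hx
  rw [Cfsg.Agent.H840.NormX.mem_cent_pair] at hy
  have h3 : Commute y (zc * c2) := by
    have h4 : Commute (((gen .l * gen .k) ^ i)⁻¹ * ((gen .l * gen .k) ^ i * y)) (zc * c2) :=
      ((comm_ab.zpow_left i).inv_left).mul_left h2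
    rwa [inv_mul_cancel_left] at h4
  obtain ⟨x', hx', y', hy', rfl⟩ := cent_mul Cfsg.Agent.H830.Con24.fgroup zc_mem c2_mem nc_zc2 h3
  obtain ⟨j, rfl⟩ := mem_zpowers_iff.1 hx'
  rw [Cfsg.Agent.H840.NormX.mem_cent_pair] at hy'
  refine ⟨i, j, y', mem_Cc.2 ⟨⟨?_, ?_⟩, hy'.1.symm, hy'.2.symm⟩, ?_⟩
  · have h5 : Commute (((zc * c2) ^ j)⁻¹ * ((zc * c2) ^ j * y')) (gen .l) :=
      ((comm_l.zpow_left j).inv_left).mul_left hy.1.symm
    rwa [inv_mul_cancel_left] at h5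
  · have h5 : Commute (((zc * c2) ^ j)⁻¹ * ((zc * c2) ^ j * y')) (gen .k) :=
      ((comm_k.zpow_left j).inv_left).mul_left hy.2.symm
    rwa [inv_mul_cancel_left] at h5
  · rw [mul_assoc]

/-- `G₂(3)` in `Fi₂₄'` -/
noncomputable def KK : Subgroup Fi24' := Cc.subgroupOf (commutator Fi24)

theorem ni_fi24' {M : Ideal AlgInt} (hM : IsPModular 3 M) : NI M Fi24' := by
  have hfin := Cfsg.Agent.R08.FiTwentyFour.finite_Fi24
  obtain ⟨e⟩ := Cfsg.Agent.H840.G2.iso_Cc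
  have e1 : ↥KK ≃* ↥Cc := subgroupOfEquivOfLe Cc_le
  refine NI.of_pair hM (a := ea) (b := eb) (K := KK) ?_ ?_ ?_ ?_ ?_ ?_ ?_ (NI.of_equiv (e1.trans e) (G23.ni_g23 hM))
  · exact Subtype.ext comm_ab
  · exact Subtype.ext cube_lk
  · exact Subtype.ext cube_zc
  · intro y hy
    obtain ⟨⟨h1, h2⟩, h3, h4⟩ := mem_Cc.1 (mem_subgroupOf.1 hy)
    exact Subtype.ext (h1.mul_right h2).symm
  · intro y hy
    obtain ⟨⟨h1, h2⟩, h3, h4⟩ := mem_Cc.1 (mem_subgroupOf.1 hy)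
    exact Subtype.ext (h3.mul_right h4).symm
  · rw [eq_bot_iff]
    intro x hx
    rw [mem_bot]
    apply e1.injective
    have h1 : e1 x ∈ center ↥Cc := by
      rw [mem_center_iff]
      intro g
      obtain ⟨g, rfl⟩ := e1.surjective g
      rw [← map_mul, ← map_mul, mem_center_iff.1 hx g]
    rw [center_Cc, mem_bot] at h1
    rw [h1, map_one]
  · intro g h1 h2
    obtain ⟨i, j, y, hy, hg⟩ := decomp (g := (g : Fi24)) (congrArg Subtype.val h1) (congrArg Subtype.val h2)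
    refine ⟨i, j, ⟨y, Cc_le hy⟩, mem_subgroupOf.2 hy, Subtype.ext ?_⟩
    rw [hg]
    rfl

end Cfsg.Agent.H509.MonW.Fi
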