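import Cfsg.Agent.H509.MonWInv
import Cfsg.Agent.OddHalf.Small.G23
import Cfsg.Agent.H167.HasStLie
import Cfsg.Agent.SmallSimple.InvolColumn
import Cfsg.Agent.S0944
import Cfsg.Agent.S1055

/-!
# `NI M G₂(3)` for a 3-modular ideal `M` (helper509, for S4095)

The involutions of `G₂(3)` are one class, with centralizer of order 576; the Steinberg character has the value
`± 9` at the involution, so its central character is `± 91` there.
-/

set_option autoImplicit false
set_option maxRecDepth 100000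

namespace Cfsg.Agent.H509.MonW

open Subgroup

theorem nine_dvd {G : Type*} [Group G] [Finite G] {C : Subgroup G} {x w : G} (hox : orderOf x = 3)
    (how : orderOf w = 3) (hc : Commute x w) (hwn : w ∉ zpowers x) (hxC : x ∈ C) (hwC : w ∈ C) : 9 ∣ Nat.card C := by
  have hcomm : ∀ (m : zpowers x) (n : zpowers w), Commute ((zpowers x).subtype m) ((zpowers w).subtype n) := by
    rintro ⟨m, hm⟩ ⟨n, hn⟩
    obtain ⟨i, rfl⟩ := mem_zpowers_iff.1 hm
    obtain ⟨j, rfl⟩ := mem_zpowers_iff.1 hn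
    exact (hc.zpow_zpow i j)
  have hinj : Function.Injective (MonoidHom.noncommCoprod (zpowers x).subtype (zpowers w).subtype hcomm) := by
    rw [MonoidHom.noncommCoprod_injective]
    refine ⟨subtype_injective _, subtype_injective _, ?_⟩
    rw [range_subtype, range_subtype, disjoint_iff]
    by_contra hne
    have hp : Nat.card ↥(zpowers w) = 3 := by rw [Nat.card_zpowers, how]
    have hd : Nat.card ↥(zpowers x ⊓ zpowers w : Subgroup G) ∣ 3 := hp ▸ card_dvd_of_le inf_le_right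
    rcases (Nat.dvd_prime Nat.prime_three).1 hd with h | h
    · exact hne (eq_bot_of_card_eq _ h)
    · have h2 : zpowers x ⊓ zpowers w = zpowers w := eq_of_le_of_card_ge inf_le_right (by rw [h, hp])
      have h3 : w ∈ zpowers x ⊓ zpowers w := by
        rw [h2]
        exact mem_zpowers w
      exact hwn h3.1
  have h9 : Nat.card (MonoidHom.noncommCoprod (zpowers x).subtype (zpowers w).subtype hcomm).range = 9 := by
    rw [← Nat.card_congr (MonoidHom.ofInjective hinj).toEquiv, Nat.card_prod, Nat.card_zpowers, Nat.card_zpowers,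
      hox, how]
  rw [← h9]
  refine card_dvd_of_le ?_
  rintro _ ⟨⟨m, n⟩, rfl⟩
  rw [MonoidHom.noncommCoprod_apply]
  exact mul_mem (zpowers_le.2 hxC m.2) (zpowers_le.2 hwC n.2)

end Cfsg.Agent.H509.MonW

namespace Cfsg.Agent.H509.MonW.G23

open Cfsg Cfsg.Lie Subgroup
open Cfsg.Agent.GTwoThree.Model
open Cfsg.Agent.OddHalf.Small.G23Data Cfsg.Agent.OddHalf.Small.G23Check Cfsg.Agent.OddHalf.Small.G23
open Cfsg.Agent.H652.Four
open Cfsg.Agent.Blocks

theorem check_z : eqc (wz ++ wz) [] = true := by decide +kernel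

theorem check_zne : nec wz [] = true := by decide +kernel

theorem check_PG : ∀ k < 5, eqc (PG.getD k [] ++ wz) (wz ++ PG.getD k []) = true := by decide +kernel

theorem check_c6 : eqc (wx 6 1 ++ wz) (wz ++ wx 6 1) = true := by decide +kernel

theorem check_c9 : eqc (wx 9 1 ++ wz) (wz ++ wx 9 1) = true := by decide +kernel

theorem check_69 : eqc (wx 6 1 ++ wx 9 1) (wx 9 1 ++ wx 6 1) = true := by decide +kernel

theorem check_63 : eqc (wx 6 1 ++ (wx 6 1 ++ wx 6 1)) [] = true := by decide +kernel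

theorem check_93 : eqc (wx 9 1 ++ (wx 9 1 ++ wx 9 1)) [] = true := by decide +kernel

theorem check_6 : nec (wx 6 1) [] = true := by decide +kernel

theorem check_9 : nec (wx 9 1) [] = true ∧ nec (wx 9 1) (wx 6 1) = true ∧
    nec (wx 9 1) (wx 6 1 ++ wx 6 1) = true := by decide +kernel

theorem zz : z * z = 1 := by
  have h := eq_of_eqc check_z
  rwa [ev_append] at h

theorem z_ne : z ≠ 1 := ne_of_nec check_zne

theorem order_z : orderOf z = 2 :=
  orderOf_eq_prime (by rw [pow_two, zz]) z_ne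

/-- the centralizer of the involution -/
abbrev Cz : Subgroup ↥Gp := centralizer ({z} : Set ↥Gp)

theorem mem_Cz {g : ↥Gp} : g ∈ Cz ↔ g * z = z * g := by
  rw [mem_centralizer_singleton_iff]

theorem PS_le : PS 5 ≤ Cz := by
  refine (closure_le _).2 ?_
  rintro _ ⟨k, hk, rfl⟩
  have h := eq_of_eqc (check_PG k hk)
  rw [ev_append, ev_append] at h
  exact mem_Cz.2 h

theorem dvd64 : 64 ∣ Nat.card ↥Cz := by
  have h1 : Nat.card ↥(PS 5) = 64 := by
    obtain ⟨k, hk⟩ := IsPGroup.iff_card.mp isPGroup_P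
    have h1 : Nat.card ↥(PS 5) ∣ 2 ^ 6 * 66339 := card_G ▸ Subgroup.card_subgroup_dvd_card _
    have h3 := card_P
    rw [hk] at h1 h3 ⊢
    have h2 : 2 ^ k ∣ 2 ^ 6 := by
      refine Nat.Coprime.dvd_of_dvd_mul_right ?_ h1
      exact Nat.Coprime.pow_left _ (by decide)
    exact le_antisymm (Nat.le_of_dvd (by norm_num) h2) h3
  rw [← h1]
  exact card_dvd_of_le PS_le

theorem dvd9 : 9 ∣ Nat.card ↥Cz := by
  obtain ⟨x, hx⟩ : ∃ x : ↥Gp, x = ev y (wx 6 1) := ⟨_, rfl⟩
  obtain ⟨w, hw⟩ : ∃ w : ↥Gp, w = ev y (wx 9 1) := ⟨_, rfl⟩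
  have hx1 : x ≠ 1 := by rw [hx]; exact ne_of_nec check_6
  have hw1 : w ≠ 1 := by rw [hw]; exact ne_of_nec check_9.1
  have hwx : w ≠ x := by rw [hx, hw]; exact ne_of_nec check_9.2.1
  have hwx2 : w ≠ x * x := by
    rw [hx, hw, ← ev_append]
    exact ne_of_nec check_9.2.2
  have hx3 : x ^ 3 = 1 := by
    have h := eq_of_eqc check_63
    rw [ev_append, ev_append, ← hx] at h
    rw [pow_succ, pow_two, mul_assoc]
    exact h
  have hw3 : w ^ 3 = 1 := by
    have h := eq_of_eqc check_93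
    rw [ev_append, ev_append, ← hw] at h
    rw [pow_succ, pow_two, mul_assoc]
    exact h
  have hox : orderOf x = 3 := orderOf_eq_prime hx3 hx1
  have how : orderOf w = 3 := orderOf_eq_prime hw3 hw1
  have hc : Commute x w := by
    have h := eq_of_eqc check_69
    rw [ev_append, ev_append, ← hx, ← hw] at h
    exact h
  have hxC : x ∈ Cz := by
    have h := eq_of_eqc check_c6
    rw [ev_append, ev_append, ← hx] at h
    exact mem_Cz.2 h
  have hwC : w ∈ Cz := by
    have h := eq_of_eqc check_c9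
    rw [ev_append, ev_append, ← hw] at h
    exact mem_Cz.2 h
  have hwn : w ∉ zpowers x := by
    intro h
    obtain ⟨k, hk⟩ := (mem_zpowers_iff_mem_range_orderOf.1 h) |> Finset.mem_image.1
    obtain ⟨hk3, hk⟩ := hk
    rw [Finset.mem_range, hox] at hk3
    interval_cases k
    · rw [pow_zero] at hk; exact hw1 hk.symm
    · rw [pow_one] at hk; exact hwx hk.symm
    · rw [pow_two] at hk; exact hwx2 hk.symm
  exact nine_dvd hox how hc hwn hxC hwC

theorem card_le : Nat.card ↥Cz ≤ 1296 := by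
  let f : (Fin 3 × Fin 3) × Fin 16 × (Fin 3 × Fin 3) → ↥Gp := fun t =>
    ev y (wx 6 t.1.1.val ++ wx 9 t.1.2.val) * ev y (NL.getD (NZ.getD t.2.1.val 0) []) *
      ev y (wx 6 t.2.2.1.val ++ wx 9 t.2.2.2.val)
  have hNZ : ∀ i ∈ NZ, ∃ k : Fin 16, NZ.getD k.val 0 = i := by decide
  have hf : (Cz : Set ↥Gp) ⊆ Set.range f := by
    intro g hg
    obtain ⟨a, d, i, hi, a', d', -, -, h, -⟩ := cent (mem_Cz.1 hg)
    obtain ⟨k, rfl⟩ := hNZ i hi
    exact ⟨((a, d), k, (a', d')), h.symm⟩
  calc Nat.card ↥Cz ≤ Nat.card (Set.range f) := Nat.card_mono (Set.finite_range f) hf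
    _ ≤ Nat.card ((Fin 3 × Fin 3) × Fin 16 × (Fin 3 × Fin 3)) := Finite.card_range_le f
    _ = 1296 := by simp

theorem card_Cz : Nat.card ↥Cz = 576 := by
  obtain ⟨a, ha⟩ : 64 * 9 ∣ Nat.card ↥Cz :=
    Nat.Coprime.mul_dvd_of_dvd_of_dvd (by decide) dvd64 dvd9
  have h1 := card_le
  have h2 : Nat.card ↥Cz ∣ 2 ^ 6 * 66339 := card_G ▸ Subgroup.card_subgroup_dvd_card _
  have h3 : 0 < Nat.card ↥Cz := Nat.card_pos
  rw [ha] at h1 h2 h3 ⊢
  have h4 : a ≤ 2 := by omega
  have h5 : 0 < a := by omega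
  interval_cases a
  · rfl
  · exfalso
    revert h2
    decide

theorem index_Cz : Cz.index = 7371 := by
  have h := card_mul_index Cz
  rw [card_Cz, card_G] at h
  omega

theorem isConj_z {t : ↥Gp} (ht : orderOf t = 2) : IsConj z t := by
  obtain ⟨c, hc⟩ := exists_conj ht
  exact (isConj_iff.2 ⟨c, hc⟩ : IsConj t z).symm

instance isSimpleGroup : IsSimpleGroup ↥Gp :=
  (Cfsg.Agent.S1055.result (F := ZMod 3) ⟨2, by decide, by decide⟩).1

theorem isLie : IsLieTypeChar 3 ↥Gp := by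
  refine Or.inr (Or.inr (Or.inr (Or.inr (Or.inr (Or.inr (Or.inl
    ⟨ZMod 3, inferInstance, inferInstance, inferInstance, ?_⟩))))))
  exact Or.inl ⟨by rw [ZMod.card], ⟨MulEquiv.refl _⟩⟩

/-- the Steinberg character -/
theorem exists_st : ∃ χ : IrrCharacter ↥Gp, (χ : ↥Gp → ℂ) 1 = 729 := by
  obtain ⟨χ, hχ, h1, -⟩ := Cfsg.Agent.H167.StChar.hasSt_of_lie Nat.prime_three isLie
  refine ⟨⟨χ, hχ⟩, ?_⟩
  change χ 1 = 729
  rw [h1, card_G]
  have : (2 ^ 6 * 66339 : ℕ).factorization 3 = 6 := by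
    have h2 : (2 ^ 6 * 66339 : ℕ) = 3 ^ 6 * 5824 := by norm_num
    rw [h2, Nat.factorization_mul (by norm_num) (by norm_num), Finsupp.add_apply, Nat.prime_three.factorization_pow,
      Finsupp.single_eq_same, Nat.factorization_eq_zero_of_not_dvd (by norm_num)]
  rw [this]
  norm_num

theorem exists_central {M : Ideal AlgInt} (hM : IsPModular 3 M) : NN M (cl z) := by
  obtain ⟨χ, h1⟩ := exists_st
  obtain ⟨n, hn, hn2⟩ := Cfsg.Agent.S0944.result χ z order_z
  have hd : (charDegree (χ : ↥Gp → ℂ) : ℤ) = 729 := by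
    have h := Basic.irr_one_eq_charDegree χ.2
    have h' : (charDegree (χ : ↥Gp → ℂ) : ℂ) = 729 := by
      rw [← h]
      exact h1
    exact_mod_cast h'
  rw [hd] at hn2
  have hsq := Cfsg.Agent.SmallSimple.InvolColumn.sum_sq_le {χ} z (fun _ => n) (by
    intro ψ hψ
    rw [Finset.mem_singleton.1 hψ]
    exact hn)
  rw [Finset.sum_singleton, card_Cz] at hsq
  have hint := CentralScalar.isIntegral_centralChar χ.2 z
  have hcc : centralChar (χ : ↥Gp → ℂ) z = (((7371 * n / 729 : ℚ)) : ℂ) := by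
    rw [Basic.centralChar_def, index_Cz, hn, h1]
    push_cast
    ring
  obtain ⟨k, hk⟩ := Cfsg.Agent.SmallSimple.InvolColumn.exists_int_of_isIntegral (hcc ▸ hint)
  have hk2 : 9 * k = 91 * n := by
    have h : (9 * k : ℚ) = 91 * n := by
      rw [hk]
      ring
    exact_mod_cast h
  refine NN.of_int hM χ (n := k) ?_ ?_
  · rw [hcc, ← hk]
    push_cast
    rfl
  · intro h3
    have h27 : (27 : ℤ) ∣ n := by omega
    obtain ⟨m, rfl⟩ := h27
    have hlt : m ^ 2 < 1 := by
      push_cast at hsq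
      nlinarith
    have hm : m = 0 := by
      by_contra hm0
      have := Int.one_le_abs hm0
      nlinarith [sq_abs m]
    subst hm
    omega

theorem ni_g23 {M : Ideal AlgInt} (hM : IsPModular 3 M) : NI M ↥Gp :=
  NI.of_class order_z (fun _ ht => isConj_z ht) (exists_central hM)

end Cfsg.Agent.H509.MonW.G23
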