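import Cfsg.Agent.H652.Four.Crit
import Cfsg.Agent.H652.Four.Base
import Cfsg.Agent.H509.WeakBlock

/-!
# Non-nilpotent sums of involutions (helper509, for S4095)

`NI M G` : the sum of all involutions of `G` is not nilpotent modulo `M` (`NN` of H652).

* `NI.brauer` : from `C_G(P)`, `P` an abelian `p`-subgroup, up to `G`;
* `NI.quot` : from a quotient by a central `p`-subgroup, `p ≠ 2`, up to `G`;
* `NI.of_equiv`, `NI.of_class`, `NI.exists_class`.
-/

set_option autoImplicit false
set_option linter.unusedSectionVars false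

namespace Cfsg.Agent.H509.MonW

open Cfsg Subgroup
open Cfsg.Agent.H652.Four
open Cfsg.Agent.H509.Weak
open Cfsg.Agent.Blocks.LocalRing
open Cfsg.Agent.Blocks
open Cfsg.Agent.Characters.Core

/-- the involutions -/
def Inv (G : Type*) [Group G] : Set G := {g | orderOf g = 2}

/-- the sum of the involutions is not nilpotent modulo `M` -/
def NI (M : Ideal AlgInt) (G : Type*) [Group G] : Prop := NN M (ind (Inv G))

variable {G : Type*} [Group G] {p : ℕ} {M : Ideal AlgInt}

theorem mem_inv {g : G} : g ∈ Inv G ↔ orderOf g = 2 := Iff.rfl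

theorem ind_conj (g x : G) : ind (Inv G) (g * x * g⁻¹) = ind (Inv G) x := by
  have h : orderOf (g * x * g⁻¹) = orderOf x := MulEquiv.orderOf_eq (MulAut.conj g) x
  by_cases h2 : x ∈ Inv G
  · rw [ind_pos h2, ind_pos (by rw [mem_inv, h]; exact h2)]
  · rw [ind_neg h2, ind_neg (by rw [mem_inv, h]; exact h2)]

theorem NI.brauer [Finite G] (hM : IsPModular p M) {P : Subgroup G} (hP : IsPGroup p P)
    (hPC : P ≤ centralizer (P : Set G)) (h : NI M (centralizer (P : Set G))) : NI M G := by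
  refine NN.brauer hM hP hPC (F := ind (Inv G)) ind_conj ?_ ?_
  · intro g
    by_cases h2 : g ∈ Inv G
    · rw [ind_pos h2]
      exact_mod_cast memLocalRing_natCast hM 1
    · rw [ind_neg h2]
      exact_mod_cast memLocalRing_natCast hM 0
  · have e : (fun c : centralizer (P : Set G) => ind (Inv G) (c : G)) = ind (Inv (centralizer (P : Set G))) := by
      funext c
      by_cases h2 : c ∈ Inv (centralizer (P : Set G))
      · rw [ind_pos h2, ind_pos (by rw [mem_inv, Subgroup.orderOf_coe]; exact h2)]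
      · rw [ind_neg h2, ind_neg (by rw [mem_inv, Subgroup.orderOf_coe]; exact h2)]
    rw [e]
    exact h

theorem NI.quot [Finite G] (hp : p.Prime) (hp2 : p ≠ 2) {Q : Type*} [Group Q] {φ : G →* Q}
    (hφ : Function.Surjective φ) (hker : φ.ker ≤ center G) (hpk : IsPGroup p φ.ker) (h : NI M Q) : NI M G := by
  classical
  have := Fintype.ofFinite G
  have := Fintype.ofSurjective φ hφ
  have hodd : ∀ k : ℕ, Odd (p ^ k) := fun k => (hp.odd_of_ne_two hp2).pow
  have hk2 : ∀ k ∈ φ.ker, k * k = 1 → k = 1 := by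
    intro k hk h2
    obtain ⟨n, hn⟩ := hpk ⟨k, hk⟩
    have hn' : k ^ p ^ n = 1 := congrArg Subtype.val hn
    obtain ⟨m, hm⟩ := hodd n
    rw [hm, pow_succ, pow_mul, pow_two, h2, one_pow, one_mul] at hn'
    exact hn'
  refine NN.quot hφ (F' := ind (Inv Q)) (fun q => ?_) h
  by_cases hq : q ∈ Inv Q
  · rw [ind_pos hq]
    obtain ⟨hq2, hq1⟩ := (orderOf_eq_prime_iff (p := 2)).1 hq
    rw [pow_two] at hq2
    obtain ⟨g₀, hg₀⟩ := hφ q
    have h1 : g₀ * g₀ ∈ φ.ker := by rw [MonoidHom.mem_ker, map_mul, hg₀, hq2]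
    obtain ⟨n, hn⟩ := hpk ⟨_, h1⟩
    have hn' : (g₀ * g₀) ^ p ^ n = 1 := congrArg Subtype.val hn
    set g := g₀ ^ p ^ n with hg
    have hgg : g * g = 1 := by
      rw [hg, ← (Commute.refl g₀).mul_pow, hn']
    have hgq : φ g = q := by
      obtain ⟨m, hm⟩ := hodd n
      rw [hg, map_pow, hg₀, hm, pow_succ, pow_mul, pow_two, hq2, one_pow, one_mul]
    have hg2 : g ∈ Inv G := by
      refine (orderOf_eq_prime_iff (p := 2)).2 ⟨by rw [pow_two]; exact hgg, fun h2 => hq1 ?_⟩
      rw [← hgq, h2, map_one]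
    rw [Finset.sum_eq_single g]
    · exact ind_pos hg2
    · intro b hb hbg
      apply ind_neg
      intro hb2
      obtain ⟨hb3, -⟩ := (orderOf_eq_prime_iff (p := 2)).1 hb2
      rw [pow_two] at hb3
      apply hbg
      have hbq : φ b = q := (Finset.mem_filter.1 hb).2
      have h2 : g⁻¹ * b ∈ φ.ker := by rw [MonoidHom.mem_ker, map_mul, map_inv, hgq, hbq, inv_mul_cancel]
      have h3 := mem_center_iff.1 (hker h2) g
      have h4 : g⁻¹ * b * (g⁻¹ * b) = 1 := by
        have h5 : g * (g⁻¹ * b * (g⁻¹ * b)) * g = 1 := by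
          calc g * (g⁻¹ * b * (g⁻¹ * b)) * g = g * (g⁻¹ * b) * ((g⁻¹ * b) * g) := by group
            _ = g * (g⁻¹ * b) * (g * (g⁻¹ * b)) := by rw [h3]
            _ = b * b := by group
            _ = 1 := hb3
        have h6 : g⁻¹ * b * (g⁻¹ * b) = g⁻¹ * g⁻¹ := by
          calc g⁻¹ * b * (g⁻¹ * b) = g⁻¹ * (g * (g⁻¹ * b * (g⁻¹ * b)) * g) * g⁻¹ := by group
            _ = _ := by rw [h5, mul_one]
        rw [h6, ← mul_inv_rev, hgg, inv_one]
      have h5 := hk2 _ h2 h4
      exact (inv_mul_eq_one.1 h5).symm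
    · intro h2
      exact (h2 (Finset.mem_filter.2 ⟨Finset.mem_univ _, hgq⟩)).elim
  · rw [ind_neg hq]
    refine Finset.sum_eq_zero fun g hg => ?_
    apply ind_neg
    intro hg2
    apply hq
    have hgq : φ g = q := (Finset.mem_filter.1 hg).2
    obtain ⟨hg3, hg1⟩ := (orderOf_eq_prime_iff (p := 2)).1 hg2
    refine (orderOf_eq_prime_iff (p := 2)).2 ⟨?_, ?_⟩
    · rw [← hgq, ← map_pow, hg3, map_one]
    · intro h2
      apply hg1
      apply hk2 g
      · rw [MonoidHom.mem_ker, hgq, h2]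
      · rw [← pow_two, hg3]

theorem NI.of_equiv [Finite G] {Q : Type*} [Group Q] (e : G ≃* Q) (h : NI M Q) : NI M G := by
  have hk : (e.toMonoidHom).ker = ⊥ := (MonoidHom.ker_eq_bot_iff _).2 e.injective
  refine NI.quot (p := 3) Nat.prime_three (by norm_num) (φ := e.toMonoidHom) e.surjective ?_ ?_ h
  · rw [hk]; exact bot_le
  · rw [hk]; exact IsPGroup.of_bot

/-- the combination: `C_G(P)/P` -/
theorem NI.section [Finite G] (hM : IsPModular p M) (hp2 : p ≠ 2) {P : Subgroup G} (hP : IsPGroup p P)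
    {Q : Type*} [Group Q] {φ : ↥(centralizer (P : Set G)) →* Q} (hφ : Function.Surjective φ)
    (hPC : P ≤ centralizer (P : Set G)) (hker : φ.ker = P.subgroupOf (centralizer (P : Set G))) (h : NI M Q) : NI M G := by
  refine NI.brauer hM hP hPC (NI.quot hM.1 hp2 hφ ?_ ?_ h)
  · rw [hker]
    intro x hx
    rw [mem_subgroupOf] at hx
    rw [mem_center_iff]
    intro c
    apply Subtype.ext
    exact (mem_centralizer_iff.1 c.2 x hx).symm
  · rw [hker]
    exact hP.comap_subtype

theorem NI.exists_class [Finite G] (hM : IsPModular p M) (h : NI M G) : ∃ z : G, orderOf z = 2 ∧ NN M (cl z) := by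
  classical
  obtain ⟨χ, hχ⟩ := h
  have := Fintype.ofFinite (ConjClasses G)
  rw [om_eq_sum_classes χ.2 ind_conj] at hχ
  by_contra hcon
  apply hχ
  refine memLocalIdeal_sum hM _ _ fun C _ => ?_
  by_cases h : Quotient.out C ∈ Inv G
  · refine memLocalIdeal_mul_left hM ?_ ?_
    · rw [ind_pos h]
      exact_mod_cast memLocalRing_natCast hM 1
    · by_contra h'
      exact hcon ⟨Quotient.out C, h, NN.of_value χ h'⟩
  · rw [ind_neg h, zero_mul]
    have h0 := (memLocalIdeal_natCast_iff hM (n := 0)).2 (dvd_zero p)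
    simpa using h0

theorem NI.of_class {z : G} (hz : orderOf z = 2) (h1 : ∀ t : G, orderOf t = 2 → IsConj z t) (h : NN M (cl z)) :
    NI M G := by
  have e : ind (Inv G) = cl z := by
    funext g
    by_cases hg : IsConj z g
    · rw [cl_pos hg]
      apply ind_pos
      obtain ⟨c, rfl⟩ := isConj_iff.1 hg
      rw [mem_inv, ← hz]
      exact MulEquiv.orderOf_eq (MulAut.conj c) z
    · rw [cl_neg hg]
      exact ind_neg fun h2 => hg (h1 g h2)
  unfold NI
  rw [e]
  exact h

end Cfsg.Agent.H509.MonW
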