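import Cfsg.Agent.H182.Bad.Odd
import Cfsg.Agent.S1938

/-!
# The Z*-statements for all groups in the form of `H182.Bad.ZAll` (helper509)
-/

set_option autoImplicit false

namespace Cfsg.Agent.H509.ZAllW

open Cfsg Cfsg.Agent.H182.Bad

universe u

/-- the `Z_p^*`-theorem in the form used by helper182 -/
theorem zall (p : ℕ) : ZAll.{u} p := fun _ _ _ _ _ _ S x hx h => Cfsg.Agent.S1938.result S x hx h

end Cfsg.Agent.H509.ZAllW
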