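import Cfsg.Agent.H509.MonWFi
import Cfsg.Agent.H493.NB.Mon
import Cfsg.Agent.H509.ZAllW
import Cfsg.Agent.H509.BadBlock
import Cfsg.Agent.H516.OddFrame
import Cfsg.Agent.Blocks.ExistsModular
import Cfsg.Agent.S2085
import Cfsg.Agent.H55.OutGen

/-!
# The Monster at the prime 3 (helper509, for S4095)

`row` : there is no bad automorphism of the Monster for the prime 3.
-/

set_option autoImplicit false

namespace Cfsg.Agent.H509.MonW

open Cfsg Subgroup
open Cfsg.Agent.H652.Four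
open Cfsg.Agent.H509.Weak
open Cfsg.Agent.H472.ComRed (cm cm_eq cm_eq')
open Cfsg.Agent.H509.TwoFrame (core le_core)
open Cfsg.Agent.H182.Bad

universe u

section part

variable {G : Type u} [Group G] [Finite G] {p : ℕ} [hp : Fact p.Prime]

/-- The decomposition into the `p`-part and the `p'`-part. -/
theorem exists_part (p : ℕ) [hp : Fact p.Prime] {G : Type*} [Group G] [Finite G] (x : G) :
    ∃ v : G, IsPPart p x (x * v⁻¹) ∧ Commute x v ∧ ¬ p ∣ orderOf v := by
  obtain ⟨k, m, hm, hn⟩ := Nat.exists_eq_pow_mul_and_not_dvd (orderOf_pos x).ne' p hp.out.ne_one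
  have hcop : (p ^ k).Coprime m := ((Nat.Prime.coprime_iff_not_dvd hp.out).2 hm).pow_left k
  obtain ⟨c, hc1, hc2⟩ := Nat.chineseRemainder hcop 0 1
  have hcomm : Commute x (x ^ c) := Commute.self_pow x c
  have ho : ¬ p ∣ orderOf (x ^ c) := by
    intro h
    apply hm
    refine h.trans (orderOf_dvd_of_pow_eq_one ?_)
    rw [← pow_mul, ← orderOf_dvd_iff_pow_eq_one, hn]
    exact Nat.mul_dvd_mul_right ((Nat.modEq_zero_iff_dvd).1 hc1) _
  refine ⟨x ^ c, ?_, hcomm, ho⟩
  refine ⟨x ^ c, ?_, ?_, ?_, ho⟩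
  · group
  · exact hcomm.mul_left (Commute.refl (x ^ c)).inv_left
  · have h1 : (x * (x ^ c)⁻¹) ^ p ^ k = 1 := by
      rw [hcomm.inv_right.mul_pow, inv_pow, ← pow_mul, mul_inv_eq_one]
      apply pow_eq_pow_iff_modEq.2
      rw [hn]
      have h2 := hc2.mul_left' (p ^ k)
      rw [mul_one, mul_comm (p ^ k) c] at h2
      exact h2.symm
    obtain ⟨j, -, hj⟩ := (Nat.dvd_prime_pow hp.out).1 (orderOf_dvd_of_pow_eq_one h1)
    exact ⟨j, hj⟩

/-- If the `p`-part of a bad element `x` commutes with the `p'`-element `y`, then `x` commutes with a conjugate of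
`y`. -/
theorem exists_commute_of {x v y : G} (hB : Bd p x)
    (hxv : Commute x v) (hv : ¬ p ∣ orderOf v) (hy : ¬ p ∣ orderOf y) (hc : Commute (x * v⁻¹) y) :
    ∃ w : G, Commute x (w * y * w⁻¹) := by
  set u := x * v⁻¹ with hu
  have hxu : Commute x u := (Commute.refl x).mul_right hxv.inv_right
  have hvu : x * u⁻¹ = v := by
    rw [hu, mul_inv_rev, inv_inv, ← mul_assoc, hxv.eq, mul_inv_cancel_right]
  have hm : x * u⁻¹ ∈ centralizer ({u} : Set G) := by
    rw [mem_centralizer_singleton_iff]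
    exact (hxu.mul_left (Commute.refl u).inv_left).eq
  have hBu := hB.mul_inv hxu hm
  set C := centralizer ({u} : Set G) with hC
  have hyC : y ∈ C := mem_centralizer_singleton_iff.2 hc.symm.eq
  have ho : ¬ p ∣ orderOf (⟨x * u⁻¹, hm⟩ : C) := by
    rw [Subgroup.orderOf_mk, hvu]
    exact hv
  have hcen : Cen p (⟨x * u⁻¹, hm⟩ : C) (⊤ : Subgroup C) := by
    intro g _
    have h1 := main (Cfsg.Agent.H509.ZAllW.zall p) ho hBu g
    have h2 : pCore p C ≤ core p (⊤ : Subgroup C) := by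
      apply le_core le_top
      · intro d _ n hn
        exact (Lib.Cores.pCore_normal (G := C) p).conj_mem n hn d
      · exact Lib.Cores.pCore_isPGroup (G := C) p
    exact h2 h1
  obtain ⟨w, -, hw⟩ := exists_conj_commute (v := (⟨y, hyC⟩ : C)) (x := (⟨x * u⁻¹, hm⟩ : C)) (D := (⊤ : Subgroup C))
    (by rwa [Subgroup.orderOf_mk]) ho (mem_top _) (mem_top _) hcen
  have h1 : y * ((w : G)⁻¹ * (x * u⁻¹) * w) = (w : G)⁻¹ * (x * u⁻¹) * w * y := congrArg Subtype.val hw.eq
  have hwu : (w : G) * u = u * w := mem_centralizer_singleton_iff.1 w.2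
  refine ⟨w, ?_⟩
  have h2 : Commute (x * u⁻¹) ((w : G) * y * (w : G)⁻¹) := by
    show x * u⁻¹ * ((w : G) * y * (w : G)⁻¹) = (w : G) * y * (w : G)⁻¹ * (x * u⁻¹)
    calc x * u⁻¹ * ((w : G) * y * (w : G)⁻¹) = w * ((w : G)⁻¹ * (x * u⁻¹) * w * y) * (w : G)⁻¹ := by group
      _ = w * (y * ((w : G)⁻¹ * (x * u⁻¹) * w)) * (w : G)⁻¹ := by rw [h1]
      _ = _ := by group
  have h3 : Commute u ((w : G) * y * (w : G)⁻¹) := by
    have h4 : Commute u w := hwu.symm
    exact (h4.mul_right hc).mul_right h4.inv_right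
  have h4 : x = (x * u⁻¹) * u := by group
  rw [h4]
  exact h2.mul_left h3

/-- **A bad element commutes with an involution.** -/
theorem exists_involution {M : Ideal AlgInt} (hM : IsPModular p M) (hp2 : p ≠ 2) (hNI : NI M G) {x : G} (hB : Bd p x) :
    ∃ t : G, orderOf t = 2 ∧ Commute x t := by
  obtain ⟨z, hz, hN⟩ := hNI.exists_class hM
  obtain ⟨v, hu, hxv, hv⟩ := exists_part p x
  obtain ⟨c, hc⟩ := Cfsg.Agent.H509.BadBlock.exists_commute hM hB hu hN
  have h1 : ∀ g y : G, orderOf (g * y * g⁻¹) = orderOf y := fun g y => MulEquiv.orderOf_eq (MulAut.conj g) y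
  have hy : ¬ p ∣ orderOf (c * z * c⁻¹) := by
    rw [h1, hz]
    exact fun h => hp2 ((Nat.prime_dvd_prime_iff_eq hp.out Nat.prime_two).1 h)
  obtain ⟨w, hw⟩ := exists_commute_of hB hxv hv hy hc
  exact ⟨_, by rw [h1, h1, hz], hw⟩

end part

section monster

variable {M : Ideal AlgInt}

theorem cent_zpowers {G : Type*} [Group G] (x : G) :
    centralizer ((zpowers x : Subgroup G) : Set G) = centralizer ({x} : Set G) := by
  apply le_antisymm
  · exact centralizer_le (Set.singleton_subset_iff.2 (mem_zpowers x))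
  · intro g hg
    rw [mem_centralizer_singleton_iff] at hg
    rw [mem_centralizer_iff]
    rintro _ ⟨k, rfl⟩
    exact ((show Commute g x from hg).zpow_right k).symm.eq

theorem NI.of_XX {G : Type*} [Group G] [Finite G] (hM : IsPModular 3 M) {x : G} (hx : orderOf x = 3)
    (h : NI M (Cfsg.Agent.LThreeMB.XX x)) : NI M G := by
  have hx3 : x ^ 3 ^ 1 = 1 := by rw [pow_one, ← hx, pow_orderOf_eq_one]
  have hP : ∀ {K : Type _} [Group K] (y : K), y ^ 3 ^ 1 = 1 → IsPGroup 3 ↥(zpowers y) := by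
    rintro K _ y hy ⟨_, k, rfl⟩
    refine ⟨1, Subtype.ext ?_⟩
    change (y ^ k) ^ 3 ^ 1 = 1
    rw [← zpow_natCast, ← zpow_mul, mul_comm, zpow_mul, zpow_natCast, hy, one_zpow]
  have h1 : NI M ↥(centralizer ({x} : Set G)) := by
    refine NI.quot (p := 3) Nat.prime_three (by norm_num) (φ := QuotientGroup.mk' (Cfsg.Agent.LThreeMB.Zx x))
      (QuotientGroup.mk'_surjective _) ?_ ?_ h
    · rw [QuotientGroup.ker_mk']
      exact Cfsg.Agent.LThreeMB.Zx_le_center x
    · rw [QuotientGroup.ker_mk']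
      exact hP _ (Subtype.ext hx3)
  refine NI.brauer hM (P := zpowers x) (hP x hx3) ?_ (NI.of_equiv (MulEquiv.subgroupCongr (cent_zpowers x)) h1)
  rw [cent_zpowers, zpowers_le, mem_centralizer_singleton_iff]

theorem ni_model (hM : IsPModular 3 M) : NI M ↥Cfsg.Agent.MonsterX.InstData.M.G := by
  have := MFive.Row.finite_model
  obtain ⟨x, hx, ⟨e⟩⟩ := Cfsg.Agent.H493.NB.exists_fi
  exact NI.of_XX hM hx (NI.of_equiv e (Fi.ni_fi24' hM))

theorem ni_of_isoM (hM : IsPModular 3 M) {L : Type*} [Group L] [Finite L] (h : Spor.IsoM L) : NI M L := by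
  obtain ⟨f⟩ := Cfsg.Agent.MonsterP.Equiv.equiv
  obtain ⟨e⟩ := h
  exact NI.of_equiv (e.trans f) (ni_model hM)

/-- **The row of the Monster at the prime 3.** -/
theorem row {L : Type u} [Group L] [Finite L] (h : Spor.IsoM L) {a : MulAut L} {b : L}
    (S : Cfsg.Agent.H516.Sit 3 a b) : False := by
  have h3 : Fact (Nat.Prime 3) := ⟨Nat.prime_three⟩
  obtain ⟨M, hM⟩ := Cfsg.Agent.Blocks.ExistsModular.exists_isPModular Nat.prime_three
  have hNI := ni_of_isoM hM h
  -- every automorphism is inner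
  obtain ⟨f⟩ := h
  have hout : Nat.card (Out L) = 1 := by
    rw [H55.OutGen.card_out_congr f]
    exact Cfsg.Agent.S2085.result
  have hsub : Subsingleton (Out L) := (Nat.card_eq_one_iff_unique.1 hout).1
  have ha : a ∈ Inn L := (QuotientGroup.eq_one_iff a).1 (Subsingleton.elim _ _)
  obtain ⟨x, rfl⟩ := ha
  have hB : Bd 3 x⁻¹ := by
    intro g
    have e : cm x⁻¹ g = ((MulAut.conj x) g)⁻¹ * g := by
      rw [cm_eq', MulAut.conj_apply]
      group
    rw [e]
    exact S.bad g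
  obtain ⟨t, ht, htc⟩ := exists_involution hM (by norm_num) hNI hB
  have hfix : t ∈ fixedSubgroup (MulAut.conj x) := by
    show MulAut.conj x t = t
    have h1 : x * t = t * x := by
      have h2 := htc.inv_left.eq
      rwa [inv_inv] at h2
    rw [MulAut.conj_apply, h1, mul_inv_cancel_right]
  have h2 := Subgroup.orderOf_dvd_natCard _ hfix
  rw [ht] at h2
  exact (Nat.not_even_iff_odd.2 S.odd) (even_iff_two_dvd.2 h2)

end monster

end Cfsg.Agent.H509.MonW
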