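import Cfsg.Agent.H509.TicSimple
import Cfsg.Agent.S1474
import Cfsg.Agent.S1476
import Cfsg.Agent.S1230
import Cfsg.Agent.OddOrderLocal.FittingHall
import Cfsg.Agent.LieClassical.FieldTransfer

/-!
# Groups in which every element centralizer is a TI-subset: the solvable case and the reduction
-/

set_option autoImplicit false
set_option linter.style.haveILetI false
set_option linter.dupNamespace false

namespace Cfsg.Agent.H509.TicMain

open Subgroup Cfsg Cfsg.Agent.H509.TIC Cfsg.Agent.H509.Kit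

/-- `Q_{2^{n+2}}` has the property only for `n ≤ 1` -/
theorem quaternion_le {n : ℕ} (h : Tic (QuaternionGroup (2 ^ n))) : n ≤ 1 := by
  haveI : NeZero (2 ^ n) := ⟨by positivity⟩
  have hz : ∀ g : QuaternionGroup (2 ^ n), g * QuaternionGroup.a ((2 ^ n : ℕ) : ZMod (2 * 2 ^ n)) =
      QuaternionGroup.a ((2 ^ n : ℕ) : ZMod (2 * 2 ^ n)) * g := by
    have h0 : ((2 ^ n : ℕ) : ZMod (2 * 2 ^ n)) + ((2 ^ n : ℕ) : ZMod (2 * 2 ^ n)) = 0 := by
      rw [← Nat.cast_add, ← two_mul]
      exact ZMod.natCast_self _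
    rintro (i | i)
    · rw [QuaternionGroup.a_mul_a, QuaternionGroup.a_mul_a, add_comm]
    · rw [QuaternionGroup.xa_mul_a, QuaternionGroup.a_mul_xa]
      congr 1
      rw [eq_sub_iff_add_eq, add_assoc, h0, add_zero]
  have hz1 : QuaternionGroup.a ((2 ^ n : ℕ) : ZMod (2 * 2 ^ n)) ≠ (1 : QuaternionGroup (2 ^ n)) := by
    intro h1
    have h2 : ((2 ^ n : ℕ) : ZMod (2 * 2 ^ n)) = 0 := by
      have h3 : QuaternionGroup.a ((2 ^ n : ℕ) : ZMod (2 * 2 ^ n)) = QuaternionGroup.a 0 := h1
      exact QuaternionGroup.a.inj h3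
    rw [ZMod.natCast_eq_zero_iff] at h2
    have := Nat.le_of_dvd (by positivity) h2
    have h3 : 0 < 2 ^ n := by positivity
    omega
  have h1 := h.comm_of_center hz hz1 (QuaternionGroup.xa 0) (QuaternionGroup.a 1)
  have h2 : (QuaternionGroup.a 1 : QuaternionGroup (2 ^ n))⁻¹ = QuaternionGroup.a (-1) := by
    apply inv_eq_of_mul_eq_one_right
    rw [QuaternionGroup.a_mul_a, add_neg_cancel]; rfl
  rw [h2, QuaternionGroup.a_mul_xa, QuaternionGroup.xa_mul_a, QuaternionGroup.xa_mul_xa,
    QuaternionGroup.xa_mul_xa] at h1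
  have h3 := QuaternionGroup.a.inj h1
  have h4 : ((4 : ℕ) : ZMod (2 * 2 ^ n)) = 0 := by
    push_cast
    have h5 := sub_eq_zero.2 h3
    linear_combination -h5
  rw [ZMod.natCast_eq_zero_iff] at h4
  by_contra hlt
  push Not at hlt
  have h5 := Nat.le_of_dvd (by norm_num) h4
  have h6 : 2 ^ 2 ≤ 2 ^ n := Nat.pow_le_pow_right (by norm_num) hlt
  omega

/-- the structure of the complement -/
theorem compl_structure {G : Type*} [Group G] [Finite G] (h : Tic G) (E C Q : Subgroup G) (hE : C ⊔ Q = E)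
    (hcomm : ∀ a ∈ C, ∀ b ∈ Q, a * b = b * a) (hC : IsCyclic C) (hodd : Odd (Nat.card C)) {n : ℕ}
    (e : Q ≃* QuaternionGroup (2 ^ n)) :
    IsCyclic E ∨ ∃ m : ℕ, Odd m ∧ Nonempty (E ≃* Multiplicative (ZMod m) × QuaternionGroup 2) := by
  classical
  haveI : NeZero (2 ^ n) := ⟨by positivity⟩
  have hn : n ≤ 1 := quaternion_le ((h.sub Q).congr e)
  have hQcard : Nat.card Q = 4 * 2 ^ n := by
    rw [Nat.card_congr e.toEquiv]
    exact Nat.card_eq_fintype_card.trans QuaternionGroup.card
  have hcop : (Nat.card C).Coprime (Nat.card Q) := by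
    rw [hQcard, show 4 * 2 ^ n = 2 ^ (n + 2) from by ring]
    exact Nat.Coprime.pow_right _ (Nat.coprime_two_right.2 hodd)
  have hdisj : _root_.Disjoint C Q := by
    rw [disjoint_iff]
    exact (Subgroup.disjoint_of_coprime_natCard hcop).eq_bot
  have hcc : ∀ (a : C) (b : Q), Commute (C.subtype a) (Q.subtype b) := fun a b => hcomm a a.2 b b.2
  let f : C × Q →* G := MonoidHom.noncommCoprod C.subtype Q.subtype hcc
  have hf : Function.Injective f := by
    rw [MonoidHom.noncommCoprod_injective]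
    refine ⟨C.subtype_injective, Q.subtype_injective, ?_⟩
    rw [Subgroup.range_subtype, Subgroup.range_subtype]
    exact hdisj
  have hr : f.range = E := by
    rw [MonoidHom.noncommCoprod_range, Subgroup.range_subtype, Subgroup.range_subtype, hE]
  have eE : C × Q ≃* E := (MonoidHom.ofInjective hf).trans (MulEquiv.subgroupCongr hr)
  interval_cases n
  · -- cyclic of order 4
    left
    haveI : IsCyclic Q := by
      apply isCyclic_of_orderOf_eq_card (e.symm (QuaternionGroup.xa 0))
      have h1 : orderOf (QuaternionGroup.xa 0 : QuaternionGroup (2 ^ 0)) = 4 := QuaternionGroup.orderOf_xa 0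
      rw [hQcard, MulEquiv.orderOf_eq, h1]; norm_num
    haveI : IsCyclic (C × Q) := by
      rw [Group.isCyclic_prod_iff]
      exact ⟨hC, inferInstance, hcop⟩
    exact isCyclic_of_surjective eE eE.surjective
  · right
    refine ⟨Nat.card C, hodd, ⟨eE.symm.trans (MulEquiv.prodCongr ?_ e)⟩⟩
    exact (zmodCyclicMulEquiv hC).symm

/-- `O_p(G) ≠ 1` implies that the Sylow `p`-subgroups are normal -/
theorem sylow_normal {G : Type*} [Group G] [Finite G] (h : Tic G) {p : ℕ} [hp : Fact p.Prime]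
    (hc : pCore p G ≠ ⊥) (P : Sylow p G) : (P : Subgroup G).Normal ∧ (P : Subgroup G) = pCore p G := by
  have h1 : ∀ Q : Sylow p G, Q = P := by
    intro Q
    by_contra hne
    apply hc
    rw [eq_bot_iff, ← S4066.result h Q P hne]
    exact le_inf (Lib.Cores.pCore_le_sylow Q) (Lib.Cores.pCore_le_sylow P)
  haveI : Subsingleton (Sylow p G) := ⟨fun a b => (h1 a).trans (h1 b).symm⟩
  have h2 : (P : Subgroup G).Normal := Sylow.normal_of_subsingleton P
  exact ⟨h2, le_antisymm (Lib.Cores.le_pCore h2 P.isPGroup') (Lib.Cores.pCore_le_sylow P)⟩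

/-- the case of a normal Sylow subgroup -/
theorem sylow_case {G : Type*} [Group G] [Finite G] (h : Tic G) (hn : ¬ Group.IsNilpotent G)
    {p : ℕ} [hp : Fact p.Prime] (P : Sylow p G) (hP : (P : Subgroup G) ≠ ⊥) (hPn : (P : Subgroup G).Normal) :
    ∃ H : Subgroup G, Cfsg.IsFrobeniusComplement H ∧
      (IsCyclic H ∨ ∃ m : ℕ, Odd m ∧ Nonempty (H ≃* Multiplicative (ZMod m) × QuaternionGroup 2)) := by
  classical
  obtain ⟨h1, h2, -, h3⟩ := S1474.result h.cn hn p P hP hPn
  haveI hsol : Group.IsSolvable G := by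
    haveI := OddOrderLocal.FittingHall.fittingHall_isNilpotent (G := G)
    haveI := h3
    exact Group.isSolvable_of_ker_le_range (fittingHall G).subtype
      (QuotientGroup.mk' (fittingHall G)) (by simp)
  rcases S1476.result h.cn with h4 | ⟨K, E, hK, hc, hE, h4⟩ | ⟨q, hq, h4⟩
  · exact absurd h4 hn
  · refine ⟨E, hE, ?_⟩
    rcases h4 with h4 | ⟨C, Q, hCQ, hcomm, hC, hodd, n, ⟨e⟩⟩
    · exact Or.inl h4
    · exact compl_structure h E C Q hCQ hcomm hC hodd e
  · exfalso
    obtain ⟨h5, A, hA1, -, -, -, -, hne, ⟨n, hi⟩, -, -⟩ := h4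
    haveI : Fact q.Prime := ⟨hq⟩
    obtain ⟨Q⟩ : Nonempty (Sylow q G) := inferInstance
    obtain ⟨h6, h7⟩ := sylow_normal h h5 Q
    have hn0 : n ≠ 0 := by
      rintro rfl
      rw [pow_zero] at hi
      exact hne (Subgroup.index_eq_one.1 hi)
    have h8 : q ∣ (Q : Subgroup G).index := by
      rw [h7]
      have h9 : q ∣ (pCore q G ⊔ A).index := by rw [hi]; exact dvd_pow_self q hn0
      exact h9.trans (Subgroup.index_dvd_of_le le_sup_left)
    exact Q.not_dvd_index h8

/-- no nontrivial nilpotent normal subgroup of a normal subgroup, when all `O_p(G) = 1` -/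
theorem eq_bot_of_nilpotent {G : Type*} [Group G] [Finite G]
    (hc : ∀ p : ℕ, p.Prime → pCore p G = ⊥) {N : Subgroup G} (hN : N.Normal) {K : Subgroup N}
    (hK : K.Normal) (hKn : Group.IsNilpotent K) : K = ⊥ := by
  classical
  by_contra hne
  have h1 : Nat.card K ≠ 1 := fun h => hne (Subgroup.card_eq_one.1 h)
  obtain ⟨p, hp, hpK⟩ := Nat.exists_prime_and_dvd h1
  haveI : Fact p.Prime := ⟨hp⟩
  obtain ⟨P⟩ : Nonempty (Sylow p K) := inferInstance
  have hPn : (P : Subgroup K).Normal := by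
    have h := (Group.isNilpotent_of_finite_tfae (G := K)).out 0 3
    exact h.1 hKn p inferInstance P
  have h2 := Lib.Cores.map_subtype_pCore p hN
  rw [hc p hp, inf_bot_eq] at h2
  have h3 := (Subgroup.map_eq_bot_iff_of_injective _ N.subtype_injective).1 h2
  have h4 := Lib.Cores.map_subtype_pCore p hK
  rw [h3, inf_bot_eq] at h4
  have h5 := (Subgroup.map_eq_bot_iff_of_injective _ K.subtype_injective).1 h4
  have h6 : (P : Subgroup K) ≤ ⊥ := by
    rw [← h5]
    exact Lib.Cores.le_pCore hPn P.isPGroup'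
  exact P.ne_bot_of_dvd_card hpK (le_bot_iff.1 h6)

/-- minimal normal subgroups are simple -/
theorem exists_simple {G : Type*} [Group G] [Finite G] [Nontrivial G] (h : Tic G)
    (hc : ∀ p : ℕ, p.Prime → pCore p G = ⊥) :
    ∃ N : Subgroup G, N.Normal ∧ IsSimpleGroup N ∧ ∃ a b : N, a * b ≠ b * a := by
  classical
  have hfin : {L : Subgroup G | L.Normal ∧ L ≠ ⊥}.Finite := Set.toFinite _
  obtain ⟨N, -, hN⟩ := hfin.exists_le_minimal
    (show (⊤ : Subgroup G) ∈ {L : Subgroup G | L.Normal ∧ L ≠ ⊥} from ⟨inferInstance, top_ne_bot⟩)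
  obtain ⟨hNn, hNb⟩ := hN.prop
  have hTN : Tic N := h.sub N
  -- every minimal normal subgroup of `N` is `N`
  have key : ∀ K : Subgroup N, Minimal (fun L : Subgroup N => L.Normal ∧ L ≠ ⊥) K → K = ⊤ := by
    intro K hK
    obtain ⟨hKn, hKb⟩ := hK.prop
    have h1 : ∀ g : G, K ≤ K.map (MulAut.conjNormal (H := N) g).toMonoidHom := by
      intro g
      by_contra hlt
      set K' := K.map (MulAut.conjNormal (H := N) g).toMonoidHom with hK'
      have hK'n : K'.Normal := hKn.map _ (MulAut.conjNormal (H := N) g).surjective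
      have hK'b : K' ≠ ⊥ := by
        intro h0
        exact hKb ((Subgroup.map_eq_bot_iff_of_injective _ (MulAut.conjNormal (H := N) g).injective).1 h0)
      have hinf : K ⊓ K' = ⊥ := by
        by_contra hne
        have h2 : K ≤ K ⊓ K' := hK.le_of_le ⟨inferInstance, hne⟩ inf_le_left
        exact hlt (h2.trans inf_le_right)
      obtain ⟨⟨b, hb⟩, hb1⟩ := Subgroup.ne_bot_iff_exists_ne_one.1 hK'b
      have hb1' : b ≠ 1 := fun h0 => hb1 (Subtype.ext h0)
      have hle : K ≤ centralizer ({b} : Set N) := by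
        intro a ha
        rw [mem_centralizer_singleton_iff]
        exact (Subgroup.commute_of_normal_of_disjoint K K' hKn hK'n (disjoint_iff.2 hinf) a b ha hb).eq
      haveI := hTN.cn b hb1'
      have hKnil : Group.IsNilpotent K :=
        Group.nilpotent_of_mulEquiv (Subgroup.subgroupOfEquivOfLe hle)
      exact hKb (eq_bot_of_nilpotent hc hNn hKn hKnil)
    -- `K` is normal in `G`
    have h2 : (K.map N.subtype).Normal := by
      refine ⟨?_⟩
      rintro _ ⟨x, hx, rfl⟩ g
      obtain ⟨y, hy, hyx⟩ := h1 g⁻¹ hx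
      have h3 : (g * (N.subtype x) * g⁻¹) = N.subtype y := by
        have h4 : ((MulAut.conjNormal (H := N) g⁻¹ y : N) : G) = x := congrArg Subtype.val hyx
        rw [MulAut.conjNormal_apply, inv_inv] at h4
        show g * (x : G) * g⁻¹ = (y : G)
        rw [← h4]; group
      rw [h3]
      exact ⟨y, hy, rfl⟩
    have h3 : K.map N.subtype ≠ ⊥ := by
      intro h0
      exact hKb ((Subgroup.map_eq_bot_iff_of_injective _ N.subtype_injective).1 h0)
    have h4 : N ≤ K.map N.subtype := hN.le_of_le ⟨h2, h3⟩ (Subgroup.map_subtype_le _)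
    rw [eq_top_iff]
    intro x _
    obtain ⟨y, hy, hyx⟩ := h4 x.2
    have : y = x := Subtype.ext hyx
    rwa [← this]
  haveI : Nontrivial N := (Subgroup.nontrivial_iff_ne_bot _).2 hNb
  refine ⟨N, hNn, ⟨fun L hL => ?_⟩, ?_⟩
  · by_cases hLb : L = ⊥
    · exact Or.inl hLb
    · right
      have hfin' : {L : Subgroup N | L.Normal ∧ L ≠ ⊥}.Finite := Set.toFinite _
      obtain ⟨K, hKL, hK⟩ := hfin'.exists_le_minimal
        (show L ∈ {L : Subgroup N | L.Normal ∧ L ≠ ⊥} from ⟨hL, hLb⟩)
      rw [eq_top_iff, ← key K hK]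
      exact hKL
  · by_contra hno
    push Not at hno
    have hnil : Group.IsNilpotent (⊤ : Subgroup N) := by
      haveI : Group.IsNilpotent N := by
        letI : CommGroup N := { (inferInstance : Group N) with mul_comm := hno }
        infer_instance
      infer_instance
    exact top_ne_bot (eq_bot_of_nilpotent hc hNn (K := ⊤) inferInstance hnil)

/-- the nonsolvable case -/
theorem nonsolvable_case {G : Type*} [Group G] [Finite G] [Nontrivial G] (h : Tic G)
    (hc : ∀ p : ℕ, p.Prime → pCore p G = ⊥) :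
    ∃ n : ℕ, 2 ≤ n ∧ Nonempty (G ≃* Matrix.ProjectiveSpecialLinearGroup (Fin 2) (GaloisField 2 n)) := by
  classical
  haveI : Fact (Nat.Prime 2) := ⟨Nat.prime_two⟩
  obtain ⟨N, hN, hNs, hNa⟩ := exists_simple h hc
  obtain ⟨Q⟩ : Nonempty (Sylow 2 N) := inferInstance
  obtain ⟨hQ4, hQi, hQe⟩ := TicSimple.main hNa (h.sub N) Q
  set Q' := (Q : Subgroup N).map N.subtype with hQ'
  have hQ'card : Nat.card Q' = Nat.card Q :=
    (Nat.card_congr ((Q : Subgroup N).equivMapOfInjective N.subtype N.subtype_injective).toEquiv).symm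
  have hQ'p : IsPGroup 2 Q' := Q.isPGroup'.map _
  obtain ⟨P, hQP⟩ := hQ'p.exists_le_sylow
  have hPb : (P : Subgroup G) ≠ ⊥ := by
    intro h0
    rw [h0, le_bot_iff] at hQP
    rw [hQP, Subgroup.card_bot] at hQ'card
    omega
  obtain ⟨H, k, hPH⟩ := exists_kit h P hPb
  have hQH : Q' ≤ H := hQP.trans hPH
  -- `N_G(Q') ≤ N_G(H)`
  have hQ'b : Q' ≠ ⊥ := by
    intro h0
    rw [h0, Subgroup.card_bot] at hQ'card
    omega
  obtain ⟨⟨x, hx⟩, hx1⟩ := Subgroup.ne_bot_iff_exists_ne_one.1 hQ'b
  have hx1' : x ≠ 1 := fun h0 => hx1 (Subtype.ext h0)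
  have hMN : normalizer (Q' : Set G) ≤ normalizer (H : Set G) := by
    intro g hg
    exact k.ti g x (hQH hx) (hQH ((Subgroup.mem_normalizer_iff.1 hg x).1 hx)) hx1'
  -- the index of `N_G(Q')`
  have hfr : normalizer (Q' : Set G) ⊔ N = ⊤ := Sylow.normalizer_sup_eq_top Q
  have hidx : (normalizer (Q' : Set G)).index = Nat.card Q + 1 := by
    haveI := hN
    set M := normalizer (Q' : Set G) with hM
    have h1 : M.subgroupOf N = normalizer ((Q : Subgroup N) : Set N) := by
      ext x
      rw [Subgroup.mem_subgroupOf, hM, Subgroup.mem_normalizer_iff, Subgroup.mem_normalizer_iff]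
      constructor
      · intro h2 y
        have h3 := h2 (y : G)
        have e1 : ((y : G) ∈ Q') ↔ y ∈ (Q : Subgroup N) :=
          ⟨fun ⟨z, hz, hzy⟩ => (Subtype.ext hzy : z = y) ▸ hz, fun hy => ⟨y, hy, rfl⟩⟩
        have e2 : ((x : G) * y * (x : G)⁻¹ ∈ Q') ↔ x * y * x⁻¹ ∈ (Q : Subgroup N) :=
          ⟨fun ⟨z, hz, hzy⟩ => (Subtype.ext hzy : z = x * y * x⁻¹) ▸ hz, fun hy => ⟨_, hy, rfl⟩⟩
        rw [e1, e2] at h3
        exact h3
      · intro h2 y
        constructor
        · rintro ⟨z, hz, rfl⟩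
          exact ⟨x * z * x⁻¹, (h2 z).1 hz, rfl⟩
        · rintro ⟨z, hz, hzy⟩
          refine ⟨x⁻¹ * z * x, ?_, ?_⟩
          · rw [SetLike.mem_coe, h2]
            have : x * (x⁻¹ * z * x) * x⁻¹ = z := by group
            rw [this]; exact hz
          · have h3 : (z : G) = x * y * (x : G)⁻¹ := hzy
            show ((x⁻¹ * z * x : N) : G) = y
            push_cast
            rw [h3]; group
    have h2 : (M.subgroupOf N).index = Nat.card Q + 1 := by rw [h1, hQi]
    have h3 : N.index = (N.subgroupOf M).index := by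
      have h4 := Subgroup.relIndex_sup_right M N
      rw [hfr, Subgroup.relIndex_top_right] at h4
      exact h4
    have h5 := (M.subgroupOf N).card_mul_index
    have h6 := (N.subgroupOf M).card_mul_index
    have h7 := M.card_mul_index
    have h8 := N.card_mul_index
    have h9 : Nat.card (M.subgroupOf N) = Nat.card (N.subgroupOf M) := by
      have e1 : Nat.card (M.subgroupOf N) = Nat.card ((M.subgroupOf N).map N.subtype) :=
        Nat.card_congr ((M.subgroupOf N).equivMapOfInjective N.subtype N.subtype_injective).toEquiv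
      have e2 : Nat.card (N.subgroupOf M) = Nat.card ((N.subgroupOf M).map M.subtype) :=
        Nat.card_congr ((N.subgroupOf M).equivMapOfInjective M.subtype M.subtype_injective).toEquiv
      rw [e1, e2, subgroupOf_map_subtype, subgroupOf_map_subtype, inf_comm]
    rw [h3] at h8
    rw [← h7, ← h5, ← h6, h9, h2] at h8
    -- `c (q+1) i = c i m`
    have hc0 : 0 < Nat.card (N.subgroupOf M) := Nat.card_pos
    have hi0 : 0 < (N.subgroupOf M).index := Nat.pos_of_ne_zero Subgroup.index_ne_zero_of_finite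
    have h10 : (Nat.card (N.subgroupOf M) * (N.subgroupOf M).index) * (Nat.card Q + 1) =
        (Nat.card (N.subgroupOf M) * (N.subgroupOf M).index) * M.index := by
      rw [← h8]; ring
    exact (Nat.eq_of_mul_eq_mul_left (Nat.mul_pos hc0 hi0) h10).symm
  have hHi : (normalizer (H : Set G)).index ∣ Nat.card Q + 1 := by
    rw [← hidx]
    exact Subgroup.index_dvd_of_le hMN
  have hHn : ¬ H.Normal := by
    intro hHn
    have h1 := Lib.Cores.le_iSup_pCore_of_isNilpotent hHn k.nil
    have h2 : (⨆ p : Nat.Primes, pCore (p : ℕ) G) = ⊥ := by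
      rw [iSup_eq_bot]
      exact fun p => hc p p.2
    rw [h2, le_bot_iff] at h1
    exact k.ne h1
  have hHi1 : (normalizer (H : Set G)).index ≠ 1 := by
    intro h1
    exact hHn (Subgroup.normalizer_eq_top_iff.1 (Subgroup.index_eq_one.1 h1))
  have hHQ : Nat.card H ≤ Nat.card Q := by
    have h1 := Nat.le_of_dvd (by
      have : (normalizer (H : Set G)).index ≠ 0 := Subgroup.index_ne_zero_of_finite
      omega) k.card_dvd
    have h2 := Nat.le_of_dvd (by omega) hHi
    omega
  have hHQ' : Q' = H := Subgroup.eq_of_le_of_card_ge hQH (by rw [hQ'card]; exact hHQ)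
  have hPQ : (P : Subgroup G) = Q' := le_antisymm (by rw [hHQ']; exact hPH) hQP
  have hPe : ∀ x ∈ (P : Subgroup G), x * x = 1 := by
    intro x hx
    rw [hPQ] at hx
    obtain ⟨y, hy, rfl⟩ := hx
    have := hQe y hy
    rw [← map_mul, this, map_one]
  have hPcard : Nat.card P = Nat.card Q := by
    have : Nat.card (P : Subgroup G) = Nat.card Q := by rw [hPQ, hQ'card]
    exact this
  have hcent : ∀ t : G, orderOf t = 2 → ∀ c, c * t = t * c → c * c = 1 := by
    intro t ht c hct
    have htp : IsPGroup 2 (zpowers t) := IsPGroup.of_card (n := 1) (by rw [Nat.card_zpowers, ht, pow_one])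
    obtain ⟨R, hR⟩ := htp.exists_le_sylow
    obtain ⟨g, hg⟩ := MulAction.exists_smul_eq G R P
    have h1 : g * t * g⁻¹ ∈ (P : Subgroup G) := by
      rw [← hg, Sylow.coe_subgroup_smul]
      exact ⟨t, hR (mem_zpowers t), rfl⟩
    have h2 : g * t * g⁻¹ ≠ 1 := by
      intro h0
      have : t = g⁻¹ * (g * t * g⁻¹) * g := by group
      rw [h0] at this
      have h3 : t = 1 := by rw [this]; group
      rw [h3, orderOf_one] at ht
      omega
    have h3 : g * c * g⁻¹ ∈ H := by
      refine k.cen _ (hPH h1) h2 _ ?_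
      calc g * c * g⁻¹ * (g * t * g⁻¹) = g * (c * t) * g⁻¹ := by group
        _ = g * (t * c) * g⁻¹ := by rw [hct]
        _ = g * t * g⁻¹ * (g * c * g⁻¹) := by group
    rw [← hHQ', ← hPQ] at h3
    have h4 := hPe _ h3
    have h5 : g * (c * c) * g⁻¹ = 1 := by rw [← h4]; group
    have : c * c = g⁻¹ * (g * (c * c) * g⁻¹) * g := by group
    rw [this, h5]; group
  have hPnc : ¬ IsCyclic (P : Subgroup G) := by
    intro hcyc
    obtain ⟨g, hg⟩ := hcyc.exists_generator
    have h1 : orderOf g = Nat.card (P : Subgroup G) := orderOf_eq_card_of_forall_mem_zpowers hg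
    have h2 : orderOf g ∣ 2 := orderOf_dvd_of_pow_eq_one (by
      rw [pow_two]; exact Subtype.ext (hPe g g.2))
    have h3 := Nat.le_of_dvd (by norm_num) h2
    have h4 : Nat.card (P : Subgroup G) = Nat.card Q := hPcard
    omega
  have hPnn : ¬ (P : Subgroup G).Normal := by
    intro hn
    apply hHn
    rwa [← hHQ', ← hPQ]
  obtain ⟨F, i1, i2, hF, ⟨e⟩⟩ := S1230.result P hPnc hPnn (fun t ht => by
    have h1 : ∀ c ∈ centralizer ({t} : Set G), c * c = 1 := fun c hc =>
      hcent t ht c (mem_centralizer_singleton_iff.1 hc)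
    refine ⟨⟨⟨fun a b => ?_⟩⟩, fun c hc => by rw [pow_two]; exact h1 c hc⟩
    have ha := h1 a a.2
    have hb := h1 b b.2
    have hab := h1 (a * b) (mul_mem a.2 b.2)
    apply Subtype.ext
    push_cast
    have ha' : (a : G)⁻¹ = a := inv_eq_of_mul_eq_one_right ha
    have hb' : (b : G)⁻¹ = b := inv_eq_of_mul_eq_one_right hb
    calc (a : G) * b = ((a : G) * b)⁻¹ := (inv_eq_of_mul_eq_one_right hab).symm
      _ = (b : G)⁻¹ * (a : G)⁻¹ := mul_inv_rev _ _
      _ = b * a := by rw [ha', hb'])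
  obtain ⟨n, hn⟩ := P.isPGroup'.exists_card_eq
  have hFn : Fintype.card F = 2 ^ n := by rw [hF]; exact hn
  have hn2 : 2 ≤ n := by
    have h4 : 4 ≤ 2 ^ n := by rw [← hn]; exact hPcard ▸ hQ4
    by_contra hlt
    have : n ≤ 1 := by omega
    have := Nat.pow_le_pow_right (show 0 < 2 by norm_num) this
    omega
  refine ⟨n, hn2, ?_⟩
  haveI : Fintype (GaloisField 2 n) := Fintype.ofFinite _
  have hcard : Fintype.card F = Fintype.card (GaloisField 2 n) := by
    rw [hFn, ← Nat.card_eq_fintype_card, GaloisField.card 2 n (by omega)]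
  exact ⟨e.trans (LieClassical.FieldTransfer.pslCongr (FiniteField.ringEquivOfCardEq hcard))⟩

/-- **Groups in which every element centralizer is a TI-subset.** -/
theorem main {G : Type*} [Group G] [Finite G] (h : Tic G) :
    Group.IsNilpotent G ∨
    (∃ H : Subgroup G, Cfsg.IsFrobeniusComplement H ∧
      (IsCyclic H ∨ ∃ m : ℕ, Odd m ∧ Nonempty (H ≃* Multiplicative (ZMod m) × QuaternionGroup 2))) ∨
    (∃ n : ℕ, 2 ≤ n ∧
      Nonempty (G ≃* Matrix.ProjectiveSpecialLinearGroup (Fin 2) (GaloisField 2 n))) := by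
  classical
  by_cases hn : Group.IsNilpotent G
  · exact Or.inl hn
  right
  haveI : Nontrivial G := by
    rw [← not_subsingleton_iff_nontrivial]
    intro h0
    exact hn inferInstance
  by_cases hc : ∀ p : ℕ, p.Prime → pCore p G = ⊥
  · exact Or.inr (nonsolvable_case h hc)
  · left
    push Not at hc
    obtain ⟨p, hp, hpc⟩ := hc
    haveI : Fact p.Prime := ⟨hp⟩
    obtain ⟨P⟩ : Nonempty (Sylow p G) := inferInstance
    obtain ⟨h1, h2⟩ := sylow_normal h hpc P
    exact sylow_case h hn P (by rw [h2]; exact hpc) h1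

end Cfsg.Agent.H509.TicMain
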