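import Cfsg.Agent.H509.KitAb
import Cfsg.Agent.S0337
import Cfsg.Agent.S0506
import Cfsg.Agent.CTwoTab.Exc
import Cfsg.Agent.SmallSimple.PSLTwoPart
import Cfsg.Agent.ThreePrime.OrderThree

/-!
# Simple groups in which every element centralizer is a TI-subset

`main`: for a Sylow 2-subgroup `P` of such a (non-abelian) simple group: `4 ≤ |P|`, `|G : N(P)| = |P| + 1`, and
`x² = 1` for `x ∈ P`.
-/

set_option autoImplicit false
set_option linter.style.haveILetI false
set_option linter.dupNamespace false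

namespace Cfsg.Agent.H509.TicSimple

open Subgroup Cfsg Cfsg.Agent.H509.TIC Cfsg.Agent.H509.Kit

/-- the arithmetic of the cases with `|G|` odd part `(A + 1) c`, `c < A` -/
theorem arith {A c m o r : ℕ} (hc0 : 0 < c) (hcA : c < A) (h : (A + 1) * c = m * (o * r))
    (hm : A * o ∣ m - 1) (hm1 : 1 < m) : m = A + 1 ∧ o = 1 ∧ r = c := by
  obtain ⟨k, hk⟩ := hm
  have hm' : m = A * o * k + 1 := by omega
  have hk0 : 0 < k := by
    rcases Nat.eq_zero_or_pos k with h0 | h0
    · rw [h0, mul_zero] at hk; omega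
    · exact h0
  have ho0 : 0 < o := by
    rcases Nat.eq_zero_or_pos o with h0 | h0
    · rw [h0, mul_zero, zero_mul] at hk; omega
    · exact h0
  have hA0 : 0 < A := by omega
  have hmA : A + 1 ≤ m := by
    have : A * 1 * 1 ≤ A * o * k := Nat.mul_le_mul (Nat.mul_le_mul_left _ ho0) hk0
    omega
  have hs : o * r ≤ c := by
    by_contra hlt
    push Not at hlt
    have h1 : (A + 1) * (c + 1) ≤ m * (o * r) := Nat.mul_le_mul hmA hlt
    nlinarith
  -- `A c + c = A o k (o r) + o r`
  have h1 : A * c + c = A * (o * k * (o * r)) + o * r := by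
    have : (A + 1) * c = A * c + c := by ring
    rw [← this, h, hm']; ring
  have h2 : A * (o * k * (o * r)) ≤ A * c := by
    by_contra hlt
    push Not at hlt
    have h3 : c < o * k * (o * r) := Nat.lt_of_mul_lt_mul_left hlt
    have h4 : A * c + A ≤ A * (o * k * (o * r)) := by
      calc A * c + A = A * (c + 1) := by ring
        _ ≤ A * (o * k * (o * r)) := Nat.mul_le_mul_left _ h3
    omega
  have h3 : o * r = c := by omega
  have h4 : A * (o * k * (o * r)) = A * c := by omega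
  have h5 : o * k * (o * r) = c := Nat.eq_of_mul_eq_mul_left hA0 h4
  rw [h3] at h5
  have h6 : o * k = 1 := by
    have : o * k * c = 1 * c := by rw [h5, one_mul]
    exact Nat.eq_of_mul_eq_mul_right hc0 this
  have h7 : o = 1 := Nat.eq_one_of_mul_eq_one_right h6
  have h8 : k = 1 := by rw [h7, one_mul] at h6; exact h6
  refine ⟨by rw [hm', h7, h8]; ring, h7, ?_⟩
  rw [h7, one_mul] at h3; exact h3

/-- the Mersenne case -/
theorem arith_mersenne {B m o r : ℕ} (hB : 0 < B)
    (h : (2 * B - 1) * (B - 1) = m * (o * r)) (hm : 2 * B * o ∣ m - 1) (hm1 : 1 < m) (hB1 : 1 < B) :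
    False := by
  obtain ⟨k, hk⟩ := hm
  have hm' : m = 2 * B * o * k + 1 := by omega
  have hk0 : 0 < k := by
    rcases Nat.eq_zero_or_pos k with h0 | h0
    · rw [h0, mul_zero] at hk; omega
    · exact h0
  have ho0 : 0 < o := by
    rcases Nat.eq_zero_or_pos o with h0 | h0
    · rw [h0, mul_zero, zero_mul] at hk; omega
    · exact h0
  have hmA : 2 * B + 1 ≤ m := by
    have : 2 * B * 1 * 1 ≤ 2 * B * o * k := Nat.mul_le_mul (Nat.mul_le_mul_left _ ho0) hk0
    omega
  obtain ⟨C, rfl⟩ : ∃ C, B = C + 1 := ⟨B - 1, by omega⟩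
  have e1 : (2 * (C + 1) - 1) * (C + 1 - 1) = (2 * C + 1) * C := by
    congr 1
  rw [e1] at h
  set s := o * r with hs
  have hs1 : s < C := by
    by_contra hlt
    push Not at hlt
    have h1 : (2 * (C + 1) + 1) * C ≤ m * s := Nat.mul_le_mul hmA hlt
    nlinarith
  -- `(2C+1) C = 2(C+1) o k s + s`, so `s ≡ (2C+1) C ≡ C + 2 mod 2(C+1)`
  have h1 : (2 * C + 1) * C = 2 * (C + 1) * (o * k * s) + s := by
    rw [h, hm']; ring
  -- `(2C+1) C + 2 (C+1) = 2 (C+1) C + C + 2`
  have h2 : 2 * (C + 1) * C + (C + 2) = 2 * (C + 1) * (o * k * s + 1) + s := by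
    have : 2 * (C + 1) * (o * k * s + 1) + s = (2 * C + 1) * C + 2 * (C + 1) := by rw [h1]; ring
    rw [this]; ring
  have h3 : (2 * (C + 1) * C + (C + 2)) % (2 * (C + 1)) = C + 2 := by
    rw [Nat.mul_add_mod, Nat.mod_eq_of_lt (by omega)]
  rw [h2, Nat.mul_add_mod, Nat.mod_eq_of_lt (by omega)] at h3
  omega

theorem card_sylow_two {G : Type*} [Group G] [Finite G] {n t : ℕ} (h : Nat.card G = 2 ^ n * t) (ht : Odd t)
    (P : Sylow 2 G) : Nat.card P = 2 ^ n := by
  haveI : Fact (Nat.Prime 2) := ⟨Nat.prime_two⟩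
  rw [P.card_eq_multiplicity, h]
  have h0 : t ≠ 0 := by rintro rfl; simp at ht
  rw [Nat.factorization_mul (by positivity) h0, Nat.Prime.factorization_pow Nat.prime_two]
  simp only [Finsupp.coe_add, Pi.add_apply, Finsupp.single_eq_same]
  rw [Nat.factorization_eq_zero_of_not_dvd (by
    intro h2
    exact (Nat.not_even_iff_odd.2 ht) (even_iff_two_dvd.2 h2)), add_zero]

theorem not_six {G : Type*} [Group G] [Finite G] [IsSimpleGroup G] (h : Nat.card G = 6) : False := by
  haveI : Fact (Nat.Prime 3) := ⟨Nat.prime_three⟩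
  obtain ⟨P⟩ : Nonempty (Sylow 3 G) := inferInstance
  have h1 : Nat.card P = 3 := by
    rw [P.card_eq_multiplicity, h, show (6 : ℕ) = 2 * 3 from rfl,
      Nat.factorization_mul (by norm_num) (by norm_num), Nat.prime_two.factorization,
      Nat.prime_three.factorization]
    simp
  have h2 : (P : Subgroup G).index = 2 := by
    have := (P : Subgroup G).card_mul_index
    rw [h] at this
    have h3 : Nat.card (P : Subgroup G) = 3 := h1
    rw [h3] at this
    omega
  have h3 : (P : Subgroup G).Normal := Subgroup.normal_of_index_eq_two h2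
  rcases h3.eq_bot_or_eq_top with h4 | h4
  · have h5 : Nat.card (P : Subgroup G) = 3 := h1
    rw [h4, Subgroup.card_bot] at h5
    omega
  · rw [h4, Subgroup.index_top] at h2
    omega

/-- the data on orders -/
structure Num (N A om m : ℕ) : Prop where
  ex : ∃ o b : ℕ, om = 2 ^ b ∧ N = (A * o) * (om - 1) * m ∧ A * o ∣ m - 1 ∧ 1 < m ∧ 0 < o

theorem num_case {N A om m n c : ℕ} (h : Num N A om m) (hA : A = 2 ^ n) (hN : N = 2 ^ n * ((2 ^ n + 1) * c))
    (hc0 : 0 < c) (hcA : c < 2 ^ n) : m = A + 1 ∧ om - 1 = c ∧ (N = A * c * (A + 1)) := by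
  obtain ⟨o, b, hb, h1, h2, h3, h4⟩ := h.ex
  subst hA
  have h5 : (2 ^ n + 1) * c = m * (o * (om - 1)) := by
    have h6 : 2 ^ n * ((2 ^ n + 1) * c) = 2 ^ n * (m * (o * (om - 1))) := by
      rw [← hN, h1]; ring
    exact Nat.eq_of_mul_eq_mul_left (by positivity) h6
  obtain ⟨h6, h7, h8⟩ := arith hc0 hcA h5 h2 h3
  refine ⟨h6, h8, ?_⟩
  rw [hN]; ring

/-- the possible orders -/
inductive Ords (N : ℕ) : Prop
  | psl (n : ℕ) (hn : 1 ≤ n) (h : N = 2 ^ n * ((2 ^ n + 1) * (2 ^ n - 1)))
  | fermat (n : ℕ) (hn : 2 ≤ n) (h : N = 2 ^ n * ((2 ^ n + 1) * (2 ^ (n - 1) + 1)))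
  | mersenne (n : ℕ) (hn : 2 ≤ n) (h : N = 2 ^ n * ((2 ^ n - 1) * (2 ^ (n - 1) - 1)))
  | nine (h : N = 360)
  | l34 (h : N = 20160)
  | twelve (h : N = 12)
  | suz (n : ℕ) (hn : 1 ≤ n) (h : N = (2 ^ (2 * n + 1)) ^ 2 *
      (((2 ^ (2 * n + 1)) ^ 2 + 1) * (2 ^ (2 * n + 1) - 1)))

theorem ords_psl {G : Type*} [Group G] {F : Type} [Field F] [Fintype F]
    (hF : Fintype.card F = 9 ∨ (∃ n : ℕ, Fintype.card F = 2 ^ n) ∨
          ((Fintype.card F).Prime ∧ ∃ k : ℕ, Fintype.card F = 2 ^ k + 1 ∨ Fintype.card F + 1 = 2 ^ k))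
    (e : G ≃* Matrix.ProjectiveSpecialLinearGroup (Fin 2) F) : Ords (Nat.card G) := by
  have hcard := Nat.card_congr e.toEquiv
  rw [hcard]
  have hF1 : 1 < Fintype.card F := Fintype.one_lt_card
  have even_case : ∀ n : ℕ, Fintype.card F = 2 ^ n →
      Ords (Nat.card (Matrix.ProjectiveSpecialLinearGroup (Fin 2) F)) := by
    intro n hn
    have hn1 : 1 ≤ n := by
      rcases Nat.eq_zero_or_pos n with h0 | h0
      · rw [h0, pow_zero] at hn; omega
      · exact h0
    refine Ords.psl n hn1 ?_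
    rw [SmallSimple.PSLTwoPart.card_psl_two_even (by rw [hn]; exact (Nat.even_pow.2 ⟨even_two, by omega⟩)), hn]
    congr 1
    have := Nat.sq_sub_sq (2 ^ n) 1
    rwa [one_pow] at this
  have odd_case : Odd (Fintype.card F) → ∀ N, 2 * N = Fintype.card F * (Fintype.card F ^ 2 - 1) →
      Nat.card (Matrix.ProjectiveSpecialLinearGroup (Fin 2) F) = N := by
    intro ho N hN
    have h1 := SmallSimple.PSLTwoPart.card_psl_two_odd (F := F) ho
    omega
  rcases hF with h9 | ⟨n, hn⟩ | ⟨hp, k, hk | hk⟩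
  · refine Ords.nine (odd_case (by rw [h9]; decide) 360 (by rw [h9]; norm_num))
  · exact even_case n hn
  · rcases Nat.eq_zero_or_pos k with h0 | h0
    · rw [h0, pow_zero] at hk
      exact even_case 1 (by rw [hk]; rfl)
    · have ho : Odd (Fintype.card F) := by
        rw [hk]
        exact (Nat.even_pow.2 ⟨even_two, by omega⟩).add_one
      by_cases hk1 : k = 1
      · rw [hk1] at hk
        refine Ords.twelve (odd_case ho 12 (by rw [hk]; norm_num))
      · refine Ords.fermat k (by omega) (odd_case ho _ ?_)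
        rw [hk]
        obtain ⟨j, rfl⟩ : ∃ j, k = j + 1 := ⟨k - 1, by omega⟩
        have h1 : (2 ^ (j + 1) + 1) ^ 2 - 1 = (2 ^ (j + 1) + 1 + 1) * (2 ^ (j + 1) + 1 - 1) := by
          have := Nat.sq_sub_sq (2 ^ (j + 1) + 1) 1
          rwa [one_pow] at this
        rw [h1, Nat.add_sub_cancel, Nat.add_sub_cancel, pow_succ]
        ring
  · have hk2 : 2 ≤ k := by
      rcases k with _ | _ | k
      · simp at hk
      · simp at hk; omega
      · omega
    have hev : Even (2 ^ k) := Nat.even_pow.2 ⟨even_two, by omega⟩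
    have ho : Odd (Fintype.card F) := by
      rw [← hk] at hev
      exact (Nat.even_add_one.1 hev |> Nat.not_even_iff_odd.1)
    refine Ords.mersenne k hk2 (odd_case ho _ ?_)
    obtain ⟨j, rfl⟩ : ∃ j, k = j + 1 := ⟨k - 1, by omega⟩
    have h3 : 2 ≤ 2 ^ j := by
      calc 2 = 2 ^ 1 := rfl
        _ ≤ 2 ^ j := Nat.pow_le_pow_right (by norm_num) (by omega)
    have hF' : Fintype.card F = 2 ^ (j + 1) - 1 := by omega
    have h1 : (Fintype.card F) ^ 2 - 1 = (Fintype.card F + 1) * (Fintype.card F - 1) := by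
      have := Nat.sq_sub_sq (Fintype.card F) 1
      rwa [one_pow] at this
    rw [h1, hk, hF', Nat.add_sub_cancel]
    have h2 : 2 ^ (j + 1) - 1 - 1 = 2 * (2 ^ j - 1) := by rw [pow_succ]; omega
    rw [h2]; ring

theorem ords {G : Type*} [Group G] [Finite G] [IsSimpleGroup G] (hG : ∃ a b : G, a * b ≠ b * a)
    (h : Tic G) : Ords (Nat.card G) := by
  rcases S0337.result hG h.cn with ⟨F, i1, i2, hF, ⟨e⟩⟩ | ⟨F, i1, i2, hF, ⟨e⟩⟩ | ⟨-, m, hm, hc⟩
  · exact ords_psl hF e
  · exact Ords.l34 (by rw [Nat.card_congr e.toEquiv, CTwoTab.card_PSL_three F hF])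
  · exact Ords.suz m hm (by rw [hc, mul_assoc])

/-- **Simple groups in which every element centralizer is a TI-subset** -/
theorem main {G : Type*} [Group G] [Finite G] [IsSimpleGroup G] (hG : ∃ a b : G, a * b ≠ b * a)
    (h : Tic G) (P : Sylow 2 G) :
    4 ≤ Nat.card P ∧ (normalizer ((P : Subgroup G) : Set G)).index = Nat.card P + 1 ∧
      ∀ x ∈ (P : Subgroup G), x * x = 1 := by
  classical
  haveI : Fact (Nat.Prime 2) := ⟨Nat.prime_two⟩
  have hord := ords hG h
  -- the order is even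
  have heven : 2 ∣ Nat.card G := by
    cases hord with
    | psl n hn h => rw [h]; exact Dvd.dvd.mul_right (dvd_pow_self 2 (by omega)) _
    | fermat n hn h => rw [h]; exact Dvd.dvd.mul_right (dvd_pow_self 2 (by omega)) _
    | mersenne n hn h => rw [h]; exact Dvd.dvd.mul_right (dvd_pow_self 2 (by omega)) _
    | nine h => rw [h]; decide
    | l34 h => rw [h]; decide
    | twelve h => rw [h]; decide
    | suz n hn h =>
      rw [h]; exact Dvd.dvd.mul_right (dvd_pow (dvd_pow_self 2 (by omega)) (by norm_num)) _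
  have hP : (P : Subgroup G) ≠ ⊥ := by
    intro h1
    have h2 := P.card_eq_multiplicity
    rw [show Nat.card P = 1 from by rw [← Subgroup.card_bot (G := G), ← h1]] at h2
    have h3 : (Nat.card G).factorization 2 ≠ 0 := by
      have := Nat.Prime.factorization_pos_of_dvd Nat.prime_two Nat.card_pos.ne' heven
      omega
    have h4 : 2 ∣ 2 ^ (Nat.card G).factorization 2 := dvd_pow_self 2 h3
    rw [← h2] at h4
    omega
  obtain ⟨H, k, hPH⟩ := exists_kit h P hP
  have hPcard : Nat.card P ∣ Nat.card H := Subgroup.card_dvd_of_le hPH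
  have h2P : 2 ∣ Nat.card P := by
    obtain ⟨n, hn⟩ := P.isPGroup'.exists_card_eq
    rcases Nat.eq_zero_or_pos n with h0 | h0
    · rw [h0, pow_zero] at hn
      exact absurd (Subgroup.card_eq_one.1 hn) hP
    · rw [hn]; exact dvd_pow_self 2 (by omega)
  have h2H : 2 ∣ Nat.card H := h2P.trans hPcard
  have hnn : normalizer (H : Set G) ≠ ⊤ := by
    intro h1
    have h3 : H.Normal := Subgroup.normalizer_eq_top_iff.1 h1
    rcases h3.eq_bot_or_eq_top with h4 | h4
    · exact k.ne h4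
    · obtain ⟨z, hz, hzz, hz1, hzc⟩ := k.exists_z h2H
      have h7 : z ∈ center G := Subgroup.mem_center_iff.2 (fun g => hzc g (h4 ▸ Subgroup.mem_top g))
      rcases (inferInstance : (center G).Normal).eq_bot_or_eq_top with h8 | h8
      · rw [h8, Subgroup.mem_bot] at h7
        exact hz1 h7
      · obtain ⟨a, b, hab⟩ := hG
        apply hab
        have := Subgroup.mem_center_iff.1 (h8 ▸ Subgroup.mem_top a : a ∈ center G) b
        exact this.symm
  -- the numbers
  set V := k.om hnn h2H with hV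
  set m := (normalizer (H : Set G)).index with hm
  have hm1 : 1 < m := by
    have h1 : m ≠ 1 := fun h1 => hnn (Subgroup.index_eq_one.1 h1)
    have h3 : m ≠ 0 := Subgroup.index_ne_zero_of_finite
    omega
  obtain ⟨o, ho⟩ := hPcard
  have ho0 : 0 < o := by
    rcases Nat.eq_zero_or_pos o with h0 | h0
    · rw [h0, mul_zero] at ho
      exact absurd ho Nat.card_pos.ne'
    · exact h0
  obtain ⟨b, hb⟩ := k.card_om hnn h2H
  have hnum : Num (Nat.card G) (Nat.card P) (Nat.card V) m := by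
    refine ⟨o, b, hb, ?_, ?_, hm1, ho0⟩
    · rw [← Subgroup.card_mul_index (normalizer (H : Set G)), k.card_normalizer hnn h2H, ho]
    · rw [← ho]; exact k.card_dvd
  -- the conclusion when `|G : N(H)| = |P| + 1`
  have hHP : m = Nat.card P + 1 → H = P := by
    intro h1
    have h3 := k.card_dvd
    rw [← hm, h1, Nat.add_sub_cancel] at h3
    exact (Subgroup.eq_of_le_of_card_ge hPH (Nat.le_of_dvd Nat.card_pos h3)).symm
  have hVH : V ≤ H := k.om_le hnn h2H
  have fin : m = Nat.card P + 1 → Nat.card V = Nat.card P →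
      (normalizer ((P : Subgroup G) : Set G)).index = Nat.card P + 1 ∧
      ∀ x ∈ (P : Subgroup G), x * x = 1 := by
    intro h1 h3
    have h4 := hHP h1
    refine ⟨by rw [← h4, ← hm, h1, h4], ?_⟩
    intro x hx
    have h5 : V = H := Subgroup.eq_of_le_of_card_ge hVH (by rw [h4, h3])
    rw [← h4, ← h5] at hx
    exact hx.2
  have hVP : Nat.card V ≤ Nat.card H := Subgroup.card_le_of_le hVH
  cases hord with
  | psl n hn h0 =>
    have hev : Even (2 ^ n) := Nat.even_pow.2 ⟨even_two, by omega⟩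
    have hge : 2 ≤ 2 ^ n := by
      calc 2 = 2 ^ 1 := rfl
        _ ≤ 2 ^ n := Nat.pow_le_pow_right (by norm_num) hn
    have hodd : Odd (2 ^ n - 1) := Nat.Even.sub_odd (by omega) hev odd_one
    have hA := card_sylow_two h0 (hev.add_one.mul hodd) P
    obtain ⟨h1, h3, h4⟩ := num_case hnum hA h0 (by omega) (by omega)
    have hVpos : 0 < Nat.card V := Nat.card_pos
    have hVA : Nat.card V = Nat.card P := by rw [hA]; omega
    refine ⟨?_, fin h1 hVA⟩
    rw [hA]
    by_contra hlt
    have hn1 : n = 1 := by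
      by_contra hne
      have : 2 ^ 2 ≤ 2 ^ n := Nat.pow_le_pow_right (by norm_num) (by omega)
      omega
    rw [hn1] at h0
    norm_num at h0
    exact not_six h0
  | fermat n hn h0 =>
    obtain ⟨j, rfl⟩ : ∃ j, n = j + 2 := ⟨n - 2, by omega⟩
    have e1 : j + 2 - 1 = j + 1 := by omega
    rw [e1] at h0
    have hev : Even (2 ^ (j + 2)) := Nat.even_pow.2 ⟨even_two, by omega⟩
    have hev' : Even (2 ^ (j + 1)) := Nat.even_pow.2 ⟨even_two, by omega⟩
    have hj0 : 0 < 2 ^ j := by positivity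
    have e2 : 2 ^ (j + 2) = 4 * 2 ^ j := by ring
    have e3 : 2 ^ (j + 1) = 2 * 2 ^ j := by ring
    have hA := card_sylow_two h0 (hev.add_one.mul hev'.add_one) P
    obtain ⟨h1, h3, h4⟩ := num_case hnum hA h0 (by omega) (by omega)
    have h5 : Nat.card V = 2 * (2 ^ j + 1) := by
      have hVpos : 0 < Nat.card V := Nat.card_pos
      omega
    have hj : j = 0 := by
      by_contra hj
      rw [hb] at h5
      have hodd : Odd (2 ^ j + 1) := (Nat.even_pow.2 ⟨even_two, hj⟩).add_one
      have h6 : 2 ^ j + 1 ∣ 2 ^ b := by rw [h5]; exact dvd_mul_left _ _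
      have h7 : Nat.Coprime (2 ^ j + 1) (2 ^ b) := Nat.Coprime.pow_right _ (Nat.coprime_two_right.2 hodd)
      have := Nat.Coprime.eq_one_of_dvd h7 h6
      omega
    subst hj
    have hVA : Nat.card V = Nat.card P := by rw [hA, h5]; norm_num
    refine ⟨?_, fin h1 hVA⟩
    rw [hA]; norm_num
  | mersenne n hn h0 =>
    exfalso
    obtain ⟨j, rfl⟩ : ∃ j, n = j + 2 := ⟨n - 2, by omega⟩
    have e1 : j + 2 - 1 = j + 1 := by omega
    rw [e1] at h0
    have hev : Even (2 ^ (j + 2)) := Nat.even_pow.2 ⟨even_two, by omega⟩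
    have hev' : Even (2 ^ (j + 1)) := Nat.even_pow.2 ⟨even_two, by omega⟩
    have hj0 : 0 < 2 ^ j := by positivity
    have e2 : 2 ^ (j + 2) = 4 * 2 ^ j := by ring
    have e3 : 2 ^ (j + 1) = 2 * 2 ^ j := by ring
    have e4 : 2 ^ (j + 2) = 2 * 2 ^ (j + 1) := by ring
    have hA := card_sylow_two h0 ((Nat.Even.sub_odd (by omega) hev odd_one).mul
      (Nat.Even.sub_odd (by omega) hev' odd_one)) P
    obtain ⟨o', b', hb', h1, h3, h4, h5⟩ := hnum.ex
    rw [hA, e4] at h3
    refine arith_mersenne (B := 2 ^ (j + 1)) (m := m) (o := o') (r := Nat.card V - 1) (by positivity) ?_ h3 h4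
      (by omega)
    have h6 : 2 ^ (j + 2) * ((2 * 2 ^ (j + 1) - 1) * (2 ^ (j + 1) - 1)) =
        2 ^ (j + 2) * (m * (o' * (Nat.card V - 1))) := by
      rw [← e4, ← h0, h1, hA]; ring
    exact Nat.eq_of_mul_eq_mul_left (by positivity) h6
  | nine h0 =>
    exfalso
    have hA := card_sylow_two (n := 3) (t := 45) h0 (by decide) P
    obtain ⟨o', b', hb', h1, h3, h4, h5⟩ := hnum.ex
    rw [hA] at h1 h3
    have h6 : 45 = o' * (Nat.card V - 1) * m := by
      have h7 : 8 * 45 = 8 * (o' * (Nat.card V - 1) * m) := by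
        rw [show 8 * 45 = 360 from rfl, ← h0, h1]; ring
      exact Nat.eq_of_mul_eq_mul_left (by norm_num) h7
    have h7 : m ∣ 45 := Dvd.intro_left _ h6.symm
    have h8 : m = 9 := by
      have h9 : m ≤ 45 := Nat.le_of_dvd (by norm_num) h7
      have h10 : 8 ∣ m - 1 := (dvd_mul_right _ _).trans h3
      clear_value m
      interval_cases m <;> first | rfl | (exfalso; revert h7 h10; decide)
    rw [h8] at h3 h6
    have h9 : o' = 1 := by
      have := Nat.le_of_dvd (by norm_num) h3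
      omega
    rw [h9] at h6
    have h10 : Nat.card V = 6 := by omega
    rw [hb] at h10
    have h11 : b < 3 := by
      by_contra hge
      push Not at hge
      have := Nat.pow_le_pow_right (show 0 < 2 by norm_num) hge
      omega
    interval_cases b <;> omega
  | l34 h0 =>
    exfalso
    have hA := card_sylow_two (n := 6) (t := 315) h0 (by decide) P
    obtain ⟨o', b', hb', h1, h3, h4, h5⟩ := hnum.ex
    rw [hA] at h1 h3
    have h6 : 315 = o' * (Nat.card V - 1) * m := by
      have h7 : 64 * 315 = 64 * (o' * (Nat.card V - 1) * m) := by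
        rw [show 64 * 315 = 20160 from rfl, ← h0, h1]; ring
      exact Nat.eq_of_mul_eq_mul_left (by norm_num) h7
    have h7 : m ∣ 315 := Dvd.intro_left _ h6.symm
    have h9 : m ≤ 315 := Nat.le_of_dvd (by norm_num) h7
    have h10 : 64 ∣ m - 1 := (dvd_mul_right _ _).trans h3
    obtain ⟨t, ht⟩ := h10
    have hm' : m = 64 * t + 1 := by omega
    have ht5 : t < 5 := by omega
    have ht0 : 0 < t := by omega
    rw [hm'] at h7
    interval_cases t <;> revert h7 <;> decide
  | twelve h0 =>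
    exfalso
    have hA := card_sylow_two (n := 2) (t := 3) h0 (by decide) P
    obtain ⟨o', b', hb', h1, h3, h4, h5⟩ := hnum.ex
    rw [hA] at h1 h3
    have h6 : 3 = o' * (Nat.card V - 1) * m := by
      have h7 : 4 * 3 = 4 * (o' * (Nat.card V - 1) * m) := by
        rw [show 4 * 3 = 12 from rfl, ← h0, h1]; ring
      exact Nat.eq_of_mul_eq_mul_left (by norm_num) h7
    have h7 : m ∣ 3 := Dvd.intro_left _ h6.symm
    have h9 : m ≤ 3 := Nat.le_of_dvd (by norm_num) h7
    have h10 : 4 ∣ m - 1 := (dvd_mul_right _ _).trans h3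
    omega
  | suz n hn h0 =>
    exfalso
    set Q := 2 ^ (2 * n + 1) with hQ
    have hQQ : Q ^ 2 = 2 ^ (2 * (2 * n + 1)) := by rw [hQ, ← pow_mul]; ring
    have hge : 8 ≤ Q := by
      calc 8 = 2 ^ 3 := rfl
        _ ≤ 2 ^ (2 * n + 1) := Nat.pow_le_pow_right (by norm_num) (by omega)
    have hev : Even Q := Nat.even_pow.2 ⟨even_two, by omega⟩
    have hev' : Even (2 ^ (2 * (2 * n + 1))) := Nat.even_pow.2 ⟨even_two, by omega⟩
    have h0' : Nat.card G = 2 ^ (2 * (2 * n + 1)) * ((2 ^ (2 * (2 * n + 1)) + 1) * (Q - 1)) := by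
      rw [h0, hQQ]
    have hA := card_sylow_two h0' (hev'.add_one.mul (Nat.Even.sub_odd (by omega) hev odd_one)) P
    have hQle : Q ≤ Q ^ 2 := Nat.le_self_pow (by norm_num) Q
    obtain ⟨h1, h3, h4⟩ := num_case hnum hA h0' (by omega) (by
      rw [← hQQ]; omega)
    have hHP' := hHP h1
    have hVQ : Nat.card V = 2 ^ (2 * n + 1) := by
      have hVpos : 0 < Nat.card V := Nat.card_pos
      rw [← hQ]; omega
    have hHQ : Nat.card H = (2 ^ (2 * n + 1)) ^ 2 := by
      rw [hHP', ← hQ, hQQ]; exact hA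
    have hcomm : IsMulCommutative (P : Subgroup G) := by
      refine ⟨⟨fun x y => ?_⟩⟩
      apply Subtype.ext
      exact k.comm_of_suzuki h hnn h2H (by omega) hHQ hVQ (hPH x.2) (hPH y.2)
    have hna : ¬ IsMulCommutative G := by
      rintro ⟨⟨hc⟩⟩
      obtain ⟨a, b, hab⟩ := hG
      exact hab (hc a b)
    have h3d : 3 ∣ Nat.card G := by
      rcases S0506.result hna P hcomm with ⟨a, ha, F, i1, i2, hF, ⟨e⟩⟩ | ⟨F, i1, i2, hF, ⟨e⟩⟩ | ⟨-, a, ha, hR⟩ | ⟨-, hJ⟩
      · rw [Nat.card_congr e.toEquiv]; exact ThreePrime.OrderThree.three_dvd_card_psl F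
      · rw [Nat.card_congr e.toEquiv]; exact ThreePrime.OrderThree.three_dvd_card_psl F
      · rw [hR, mul_assoc, ← pow_mul]
        exact Dvd.dvd.mul_right (dvd_pow_self 3 (by omega)) _
      · rw [hJ]; decide
    -- `Q ≡ 2 mod 3`
    have hQ3 : Q % 3 = 2 := by
      rw [hQ, pow_succ, pow_mul, Nat.mul_mod, Nat.pow_mod]
      norm_num
    rw [h0] at h3d
    have h5 : (Q ^ 2 * ((Q ^ 2 + 1) * (Q - 1))) % 3 = 0 := Nat.mod_eq_zero_of_dvd h3d
    have h6 : Q ^ 2 % 3 = 1 := by rw [Nat.pow_mod, hQ3]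
    have h7 : (Q - 1) % 3 = 1 := by omega
    rw [Nat.mul_mod, Nat.mul_mod (Q ^ 2 + 1), Nat.add_mod, h6, h7] at h5
    norm_num at h5

end Cfsg.Agent.H509.TicSimple
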