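import Cfsg.Agent.H509.TwoTools
import Cfsg.Agent.H16.UniqRes
import Cfsg.Agent.QTUnique.MTwelve
import Cfsg.Agent.QTNorm.SporM12

/-!
# S3842, S4094: the inner rows from `NUN` (helper509)

`InRow S` : there is no `x : S` with `Ctx 2 ⊤ x` and even order.
-/

set_option autoImplicit false

namespace Cfsg.Agent.H509.TwoFrame

open Subgroup Cfsg
open Cfsg.Agent.UniqLoc

universe u

/-- no inner counterexample -/
def InRow (S : Type u) [Group S] : Prop := ∀ x : S, Ctx 2 (⊤ : Subgroup S) x → 2 ∣ orderOf x → False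

theorem InRow.of_nun {S : Type u} [Group S] [Finite S] (h : NUN S) : InRow S := fun _ C hx => C.false_of_nun h hx

variable {S : Type u} [Group S] [Finite S] [IsSimpleGroup S]

theorem in_m12 (h : Spor.IsoM12 S) : InRow S :=
  .of_nun (nun_of_notUnique (QTUnique.MTwelve.notUnique h) (QTNorm.nt_m12 h))

theorem in_j2 (hna : ¬ IsMulCommutative S) (h : Spor.IsoJ2 S) : InRow S := .of_nun (RowsN.nun_j2 hna (QTNorm.nt_j2 h) h)

theorem in_hs (h : Spor.IsoHS S) : InRow S := .of_nun (RowsN.nun_hs (QTNorm.HSRow.nt_hs h) h)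

theorem in_he (h : Spor.IsoHe S) : InRow S := .of_nun (RowsN.nun_he h)

theorem in_ru (h : Spor.IsoRu S) : InRow S := .of_nun (nun_of_notUnique (QTUnique.Ru.notUnique h) (QTNorm.RuRow.nt_ru h))

theorem in_suz (h : Spor.IsoSuz S) : InRow S := .of_nun (Table.nun_iso Suz.nun h)

theorem in_co3 (h : Spor.IsoCo3 S) : InRow S := .of_nun (Table.nun_iso Co3.nun h)

theorem in_co2 (h : Spor.IsoCo2 S) : InRow S := .of_nun (Table.nun_iso UniqSheet.Co2.nun h)

theorem in_co1 (h : Spor.IsoCo1 S) : InRow S := .of_nun (Table.nun_iso H16.NunCo1.nun h)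

theorem in_hn (h : Spor.IsoHN S) : InRow S := .of_nun (Table.nun_iso HN.nun h)

theorem in_th (h : Spor.IsoTh S) : InRow S := .of_nun (Table.nun_iso UniqSheet.Th.nun h)

theorem in_fi22 (h : Spor.IsoFi22 S) : InRow S := .of_nun (H16.NunFi22.nun_of_iso h)

theorem in_fi23 (hna : ¬ IsMulCommutative S) (h : Spor.IsoFi23 S) : InRow S := .of_nun (H16.UniqRes.nun_fi23 hna h)

theorem in_fi24 (h : Spor.IsoFi24' S) : InRow S := .of_nun (Table.nun_iso H16.NunFi24.nun h)

theorem in_b (h : Spor.IsoB S) : InRow S := .of_nun (H16.NunB.nun_of_isoB h)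

theorem in_m (h : Spor.IsoM S) : InRow S := .of_nun (Table.nun_iso H16.NunM.nun h)

theorem in_tits (h : Cfsg.Lie.IsoTits S) : InRow S := .of_nun (UniqLoc.Tits.nun_isoTits h)

end Cfsg.Agent.H509.TwoFrame
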