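import Cfsg.Agent.H509.TwoFrame
import Cfsg.Agent.S0200
import Cfsg.Agent.S0116
import Cfsg.Agent.Solvable.SchurZassenhausConj
import Cfsg.Prelude.Def_IsolatedElements

/-!
# S3842, S4094: tools for the context `Ctx` (helper509)

* `Ctx.sq_ne_one` : `x ^ 2 ≠ 1` if `p = 2`;
* `Ctx.map_equiv`, `Ctx.eq_top`, `Ctx.exists_inner` : transport, inner elements;
* `Ctx.isolated` : if `p` does not divide the order of `x`, then every prime divisor `q` of the order gives a nontrivial
  isolated `q`-element in a Sylow `q`-subgroup; `Ctx.dvd_order` : with the Z*-theorem, `p` divides the order of `x`;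
* `InRow`, `OutRow`, `false_of_rows`.
-/

set_option autoImplicit false

namespace Cfsg.Agent.H509.TwoFrame

open Subgroup Cfsg
open Cfsg.Agent.H472.ComRed (cm cm_eq cm_eq' cm_eq_one cm_mem cm_mem_left map_cm MinCtx)
open Cfsg.Agent.Lib.Cores
open scoped Pointwise

universe u

variable {G : Type u} [Group G] {p : ℕ} {L : Subgroup G} {x : G}

/-! ### Involutions -/

/-- **`x` is not an involution** (Baer-Suzuki). -/
theorem Ctx.sq_ne_one [Finite G] (C : Ctx 2 L x) : x ^ 2 ≠ 1 := by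
  intro h
  have hx : orderOf x = 2 := orderOf_eq_prime h C.ne
  obtain ⟨g, hg1, hgo, hg⟩ := Cfsg.Agent.S0200.result x hx (fun N hN hN2 hxN => by
    have h1 := C.eq_bot_of_normal hN hN2
    rw [h1, mem_bot] at hxN
    exact C.ne hxN)
  have hinv : x⁻¹ = x := inv_eq_of_mul_eq_one_left (by rw [← pow_two]; exact h)
  have h1 : cm x g = g * g := by
    rw [cm_eq, hinv]
    have h2 : x * g * x = g⁻¹ := by
      rw [← hg, hinv]
    rw [h2, inv_inv]
  rcases C.bad g with h2 | h2
  · rw [h1, ← pow_two] at h2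
    have h3 : orderOf g ∣ 2 := orderOf_dvd_of_pow_eq_one h2
    rcases (Nat.dvd_prime Nat.prime_two).1 h3 with h4 | h4
    · exact hg1 (orderOf_eq_one_iff.1 h4)
    · rw [h4] at hgo
      exact absurd hgo (by decide)
  · rw [h1, ← pow_two] at h2
    exact (Nat.not_even_iff_odd.2 hgo) (even_iff_two_dvd.2 (h2.trans (orderOf_pow_dvd 2)))

/-! ### Transport -/

theorem core_map_equiv {H : Type*} [Group H] (e : G ≃* H) (D : Subgroup G) :
    core p (D.map e.toMonoidHom) = (core p D).map e.toMonoidHom := by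
  apply le_antisymm
  · -- pull back
    have h1 : (core p (D.map e.toMonoidHom)).map e.symm.toMonoidHom ≤ core p D := by
      apply le_core
      · rintro _ ⟨y, hy, rfl⟩
        obtain ⟨d, hd, hd'⟩ := core_le p _ hy
        have : e.symm.toMonoidHom y = d := by
          rw [← hd']
          exact e.symm_apply_apply d
        rw [this]
        exact hd
      · rintro d hd _ ⟨y, hy, rfl⟩
        refine ⟨e d * y * (e d)⁻¹, core_conj hy ⟨d, hd, rfl⟩, ?_⟩
        simp
      · exact (core_isPGroup p _).map _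
    intro y hy
    refine ⟨e.symm y, h1 ⟨y, hy, rfl⟩, ?_⟩
    exact e.apply_symm_apply y
  · apply le_core
    · exact map_mono (core_le p D)
    · rintro _ ⟨d, hd, rfl⟩ _ ⟨n, hn, rfl⟩
      refine ⟨d * n * d⁻¹, core_conj hn hd, ?_⟩
      simp
    · exact (core_isPGroup p D).map _

theorem Ctx.map_equiv {H : Type u} [Group H] (C : Ctx p L x) (e : G ≃* H) : Ctx p (L.map e.toMonoidHom) (e x) where
  normal := by
    have := C.normal
    exact Subgroup.Normal.map this _ e.surjective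
  simple := by
    have := C.simple
    have e1 : L ≃* L.map e.toMonoidHom := e.subgroupMap L
    have : Nontrivial (L.map e.toMonoidHom) := e1.symm.toEquiv.nontrivial
    exact IsSimpleGroup.isSimpleGroup_of_surjective e1.toMonoidHom e1.surjective
  nonab := fun h => C.nonab (by
    have e1 : L ≃* L.map e.toMonoidHom := e.subgroupMap L
    refine ⟨⟨fun a b => ?_⟩⟩
    apply e1.injective
    rw [map_mul, map_mul]
    exact h.is_comm.comm _ _)
  cent := by
    rw [eq_bot_iff]
    intro y hy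
    have h1 : e.symm y ∈ centralizer (L : Set G) := by
      rw [mem_centralizer_iff]
      intro l hl
      apply e.injective
      rw [map_mul, map_mul, e.apply_symm_apply]
      exact mem_centralizer_iff.1 hy (e l) ⟨l, hl, rfl⟩
    rw [C.cent, mem_bot] at h1
    rw [mem_bot, ← e.apply_symm_apply y, h1, map_one]
  gen := by
    have h1 : (L ⊔ zpowers x).map e.toMonoidHom = ⊤ := by
      rw [C.gen]
      exact Subgroup.map_top_of_surjective _ e.surjective
    rw [Subgroup.map_sup, MonoidHom.map_zpowers] at h1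
    exact h1
  ne := fun h => C.ne (by rwa [EmbeddingLike.map_eq_one_iff] at h)
  bad := fun g => by
    obtain ⟨g, rfl⟩ := e.surjective g
    have h1 : cm (e x) (e g) = e (cm x g) := (map_cm e.toMonoidHom x g).symm
    rw [h1, MulEquiv.orderOf_eq]
    rcases C.bad g with h2 | h2
    · left
      rw [h2, map_one]
    · exact Or.inr h2
  ind := fun D hx hD d hd => by
    have h1 : D = (D.map e.symm.toMonoidHom).map e.toMonoidHom := by
      rw [Subgroup.map_map]
      have : e.toMonoidHom.comp e.symm.toMonoidHom = MonoidHom.id H := by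
        ext y; exact e.apply_symm_apply y
      rw [this, Subgroup.map_id]
    rw [h1, core_map_equiv]
    have hxD : x ∈ D.map e.symm.toMonoidHom := ⟨e x, hx, e.symm_apply_apply x⟩
    refine ⟨cm x (e.symm d), C.ind _ hxD ?_ _ ⟨d, hd, rfl⟩, ?_⟩
    · intro h2
      apply hD
      rw [h1, h2]
      exact Subgroup.map_top_of_surjective _ e.surjective
    · rw [map_cm]
      congr 1
      exact e.apply_symm_apply d

/-- If `x` lies in `L`, then `L` is the whole group. -/
theorem Ctx.eq_top (C : Ctx p L x) (hx : x ∈ L) : L = ⊤ := by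
  rw [← C.gen, eq_comm, sup_eq_left]
  exact zpowers_le.2 hx

/-- The inner case as a statement on a group isomorphic to `L`. -/
theorem Ctx.exists_inner (C : Ctx p L x) (hx : x ∈ L) {S : Type u} [Group S] (e : L ≃* S) :
    ∃ y : S, Ctx p (⊤ : Subgroup S) y ∧ orderOf y = orderOf x := by
  have h := C.eq_top hx
  let e1 : G ≃* S := (topEquiv.symm.trans (MulEquiv.subgroupCongr h.symm)).trans e
  refine ⟨e1 x, ?_, MulEquiv.orderOf_eq e1 x⟩
  have h1 := C.map_equiv e1
  rwa [h, Subgroup.map_top_of_surjective _ e1.surjective] at h1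

/-! ### `p'`-elements -/

/-- In a group `D` with `[x, D] ≤ V`, `V` a normal `p`-subgroup, `x` of order prime to `p`: `D = V C_D(x)`. -/
theorem exists_mul {D : Type*} [Group D] [Finite D] [hp : Fact p.Prime] {V : Subgroup D} [hV : V.Normal] (hVp : IsPGroup p V)
    {x : D} (hx : ¬ p ∣ orderOf x) (h : ∀ d, cm x d ∈ V) (d : D) : ∃ v ∈ V, Commute x (d * v) := by
  -- the subgroup `V⟨x⟩`
  set K := V ⊔ zpowers x with hK
  obtain ⟨n, hn⟩ := IsPGroup.iff_card.1 hVp
  have hcop : (Nat.card V).Coprime (Nat.card (zpowers x)) := by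
    rw [hn, Nat.card_zpowers]
    exact Nat.Coprime.pow_left n ((Nat.Prime.coprime_iff_not_dvd hp.out).2 hx)
  have hVK : V ≤ K := le_sup_left
  -- complements of `V` in `K`
  have hcompl : ∀ y : D, y⁻¹ * x ∈ V → orderOf y = orderOf x → IsComplement' (V.subgroupOf K) ((zpowers y).subgroupOf K) := by
    intro y hy ho
    have hyK : y ∈ K := by
      have : y = x * (y⁻¹ * x)⁻¹ := by group
      rw [this]
      exact mul_mem (mem_sup_right (mem_zpowers x)) (inv_mem (hVK hy))
    have hyle : zpowers y ≤ K := zpowers_le.2 hyK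
    apply isComplement'_of_disjoint_and_mul_eq_univ
    · rw [disjoint_iff, eq_bot_iff]
      intro k hk
      have h1 : (k : D) ∈ V ⊓ zpowers y := hk
      have h2 : V ⊓ zpowers y = ⊥ := by
        refine (disjoint_of_coprime_natCard ?_).eq_bot
        rw [Nat.card_zpowers y, ho, ← Nat.card_zpowers x]
        exact hcop
      rw [h2, mem_bot] at h1
      exact Subtype.ext h1
    · rw [Set.eq_univ_iff_forall]
      intro k
      have h1 : (k : D) ∈ V ⊔ zpowers y := by
        have h2 : V ⊔ zpowers x ≤ V ⊔ zpowers y := by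
          refine sup_le le_sup_left (zpowers_le.2 ?_)
          have : x = y * (y⁻¹ * x) := by group
          rw [this]
          exact mul_mem (mem_sup_right (mem_zpowers y)) (mem_sup_left hy)
        exact h2 k.2
      obtain ⟨v, hv, z, hz, hvz⟩ := mem_sup_of_normal_left.1 h1
      exact Set.mem_mul.2 ⟨⟨v, hVK hv⟩, hv, ⟨z, hyle hz⟩, hz, Subtype.ext hvz⟩
  have hy : (d⁻¹ * x * d)⁻¹ * x ∈ V := by
    have h1 := inv_mem (h d)
    have e : (cm x d)⁻¹ = (d⁻¹ * x * d)⁻¹ * x := by simp only [cm]; group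
    rwa [e] at h1
  have ho : orderOf (d⁻¹ * x * d) = orderOf x := by
    have : d⁻¹ * x * d = MulAut.conj d⁻¹ x := by simp
    rw [this, MulEquiv.orderOf_eq]
  have h1 := hcompl _ hy ho
  have h2 := hcompl x (by simp) rfl
  have hsolv : Group.IsSolvable (V.subgroupOf K) := by
    have h3 : IsPGroup p (V.subgroupOf K) := hVp.comap_of_injective _ K.subtype_injective
    have := h3.isNilpotent
    infer_instance
  have hcop' : (Nat.card (V.subgroupOf K)).Coprime (V.subgroupOf K).index := by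
    have h3 : Nat.card (V.subgroupOf K) = Nat.card V := Nat.card_congr (subgroupOfEquivOfLe hVK).toEquiv
    have h4 : (V.subgroupOf K).index = Nat.card ((zpowers x).subgroupOf K) := h2.symm.index_eq_card
    have h5 : Nat.card ((zpowers x).subgroupOf K) = Nat.card (zpowers x) :=
      Nat.card_congr (subgroupOfEquivOfLe (le_sup_right : zpowers x ≤ K)).toEquiv
    rw [h3, h4, h5]
    exact hcop
  obtain ⟨k, hk⟩ := Solvable.SchurZassenhausConj.conj_of_solvable (V.subgroupOf K) hcop' (Or.inl hsolv) _ _ h1 h2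
  have hyK : d⁻¹ * x * d ∈ K := by
    have : d⁻¹ * x * d = x * ((d⁻¹ * x * d)⁻¹ * x)⁻¹ := by group
    rw [this]
    exact mul_mem (mem_sup_right (mem_zpowers x)) (inv_mem (hVK hy))
  have h3 : (k : D) * (d⁻¹ * x * d) * (k : D)⁻¹ ∈ zpowers x := by
    have h4 : (MulAut.conj k • (⟨_, hyK⟩ : K)) ∈ MulAut.conj k • (zpowers (d⁻¹ * x * d)).subgroupOf K :=
      Subgroup.smul_mem_pointwise_smul _ _ _ (mem_zpowers _)
    rw [hk] at h4
    exact h4
  obtain ⟨v, hv, z, hz, hvz⟩ := mem_sup_of_normal_left.1 k.2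
  -- `k = v z`; write it as `z v'`
  set w := z⁻¹ * v * z with hw
  have hwV : w ∈ V := by
    have := hV.conj_mem v hv z⁻¹
    rwa [inv_inv] at this
  have hk2 : (k : D) = z * w := by rw [← hvz, hw]; group
  have h5 : w * (d⁻¹ * x * d) * w⁻¹ ∈ zpowers x := by
    have e : w * (d⁻¹ * x * d) * w⁻¹ = z⁻¹ * ((k : D) * (d⁻¹ * x * d) * (k : D)⁻¹) * z := by
      rw [hk2]; group
    rw [e]
    exact mul_mem (mul_mem (inv_mem hz) h3) hz
  have h6 : w * (d⁻¹ * x * d) * w⁻¹ * x⁻¹ ∈ V := by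
    have e : w * (d⁻¹ * x * d) * w⁻¹ * x⁻¹ = w * (x * ((d⁻¹ * x * d)⁻¹ * x)⁻¹ * w⁻¹ * x⁻¹) := by group
    rw [e]
    refine mul_mem hwV ?_
    have e2 : x * ((d⁻¹ * x * d)⁻¹ * x)⁻¹ * w⁻¹ * x⁻¹ = x * (((d⁻¹ * x * d)⁻¹ * x)⁻¹ * w⁻¹) * x⁻¹ := by group
    rw [e2]
    exact hV.conj_mem _ (mul_mem (inv_mem hy) (inv_mem hwV)) x
  have h7 : V ⊓ zpowers x = ⊥ := (disjoint_of_coprime_natCard hcop).eq_bot
  have h8 : w * (d⁻¹ * x * d) * w⁻¹ * x⁻¹ ∈ V ⊓ zpowers x := ⟨h6, (zpowers x).mul_mem h5 ((zpowers x).inv_mem (mem_zpowers x))⟩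
  rw [h7, mem_bot, mul_inv_eq_one] at h8
  refine ⟨w⁻¹, inv_mem hwV, ?_⟩
  show x * (d * w⁻¹) = d * w⁻¹ * x
  calc x * (d * w⁻¹) = d * w⁻¹ * (w * (d⁻¹ * x * d) * w⁻¹) := by group
    _ = d * w⁻¹ * x := by rw [h8]

namespace Ctx

variable [Finite G] [hp : Fact p.Prime]

/-- Elements normalizing a `q`-subgroup `H` centralized by `x` centralize the elements of `H ∩ ⟨x⟩`. -/
theorem comm_of_mem (C : Ctx p L x) {q : ℕ} [hq : Fact q.Prime] (hqp : q ≠ p) {H : Subgroup G} (hH : IsPGroup q H)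
    (hHx : ∀ h ∈ H, Commute x h) {m : ℤ} (hs : x ^ m ∈ H) (hs1 : x ^ m ≠ 1) {d : G} (hd : d ∈ normalizer (H : Set G)) :
    d * x ^ m * d⁻¹ = x ^ m := by
  have hH1 : H ≠ ⊥ := by
    rintro rfl
    exact hs1 (mem_bot.1 hs)
  set D := normalizer (H : Set G) with hD
  have hDt : D ≠ ⊤ := C.normalizer_ne_top hH hH1
  have hxD : x ∈ D := by
    apply mem_normalizer_fintype
    intro h hh
    rw [(hHx h hh).eq]
    simpa using hh
  -- `x ^ m` is central modulo `O_p(D)`
  have h1 : cm (x ^ m) d ∈ core p D := by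
    set P := pCore p D with hP
    have hcomm : ∀ e : D, (QuotientGroup.mk' P) ⟨x, hxD⟩ * (QuotientGroup.mk' P) e =
        (QuotientGroup.mk' P) e * (QuotientGroup.mk' P) ⟨x, hxD⟩ := by
      intro e
      obtain ⟨c, hc, hc'⟩ := C.ind D hxD hDt e e.2
      have h1 : c = cm (⟨x, hxD⟩ : D) e := Subtype.ext hc'
      have h2 : (QuotientGroup.mk' P) (cm (⟨x, hxD⟩ : D) e) = 1 := by
        rw [← h1]
        exact (QuotientGroup.eq_one_iff c).2 hc
      rw [map_cm] at h2
      exact cm_eq_one.1 h2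
    have h2 : cm ((⟨x, hxD⟩ : D) ^ m) ⟨d, hd⟩ ∈ P := by
      rw [← QuotientGroup.eq_one_iff]
      show (QuotientGroup.mk' P) _ = 1
      rw [map_cm, map_zpow, cm_eq_one]
      exact (show Commute _ _ from hcomm ⟨d, hd⟩).zpow_left m
    refine ⟨_, h2, ?_⟩
    simp [cm]
  have h2 : cm (x ^ m) d ∈ H := by
    rw [cm_eq']
    refine mul_mem (inv_mem hs) ?_
    have := (mem_normalizer_iff.1 (inv_mem hd) (x ^ m)).1 hs
    rwa [inv_inv] at this
  have h3 : cm (x ^ m) d = 1 := by
    have h4 : core p D ⊓ H = ⊥ := by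
      obtain ⟨a, ha⟩ := IsPGroup.iff_card.1 (core_isPGroup p D)
      obtain ⟨b, hb⟩ := IsPGroup.iff_card.1 hH
      refine (disjoint_of_coprime_natCard ?_).eq_bot
      rw [ha, hb]
      exact Nat.Coprime.pow _ _ ((Nat.coprime_primes hp.out hq.out).2 hqp.symm)
    have h5 : cm (x ^ m) d ∈ core p D ⊓ H := ⟨h1, h2⟩
    rwa [h4, mem_bot] at h5
  have h4 := cm_eq_one.1 h3
  rw [← h4]
  group

/-- **Isolated elements.** If `p` does not divide the order of `x`, a `q`-element of `⟨x⟩` is isolated in a Sylow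
`q`-subgroup. -/
theorem isolated (C : Ctx p L x) (hx : ¬ p ∣ orderOf x) {q : ℕ} [hq : Fact q.Prime] {m : ℤ} {k : ℕ}
    (hk : (x ^ m) ^ q ^ k = 1) (hm : x ^ m ≠ 1) :
    ∃ Q : Sylow q G, x ^ m ∈ (Q : Subgroup G) ∧ ∀ g : G, g * x ^ m * g⁻¹ ∈ (Q : Subgroup G) → g * x ^ m * g⁻¹ = x ^ m := by
  have hqp : q ≠ p := by
    rintro rfl
    have h1 : orderOf (x ^ m) ∣ q ^ k := orderOf_dvd_of_pow_eq_one hk
    obtain ⟨j, -, hj⟩ := (Nat.dvd_prime_pow hq.out).1 h1
    rcases Nat.eq_zero_or_pos j with rfl | hj0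
    · rw [pow_zero, orderOf_eq_one_iff] at hj
      exact hm hj
    · apply hx
      refine (dvd_pow_self q hj0.ne').trans ?_
      rw [← hj, ← Nat.card_zpowers, ← Nat.card_zpowers]
      exact Subgroup.card_dvd_of_le (zpowers_le.2 ⟨m, rfl⟩)
  -- a maximal `q`-subgroup containing `x ^ m` and centralized by `x`
  obtain ⟨Q, hQ⟩ : ∃ Q : Subgroup G, Maximal (fun Q : Subgroup G => IsPGroup q Q ∧ x ^ m ∈ Q ∧ ∀ h ∈ Q, Commute x h) Q := by
    have hfin : (Set.univ : Set (Subgroup G)).Finite := Set.toFinite _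
    refine (hfin.subset (Set.subset_univ {Q : Subgroup G | IsPGroup q Q ∧ x ^ m ∈ Q ∧ ∀ h ∈ Q, Commute x h})).exists_maximal
      ⟨zpowers (x ^ m), ?_, mem_zpowers _, ?_⟩
    · rintro ⟨z, i, rfl⟩
      refine ⟨k, Subtype.ext ?_⟩
      show ((x ^ m) ^ i) ^ q ^ k = 1
      rw [← zpow_natCast, ← zpow_mul, mul_comm, zpow_mul, zpow_natCast, hk, one_zpow]
    · rintro _ ⟨i, rfl⟩
      exact ((Commute.refl x).zpow_right m).zpow_right i
  obtain ⟨⟨hQq, hmQ, hQx⟩, hmax⟩ := hQ
  have hQ1 : Q ≠ ⊥ := by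
    rintro rfl
    exact hm (mem_bot.1 hmQ)
  set D := normalizer (Q : Set G) with hD
  have hDt : D ≠ ⊤ := C.normalizer_ne_top hQq hQ1
  have hxD : x ∈ D := by
    apply mem_normalizer_fintype
    intro h hh
    rw [(hQx h hh).eq]
    simpa using hh
  -- the centralizer of `x` in `D`
  set V := pCore p D with hV
  set x' : D := ⟨x, hxD⟩ with hx'
  have hx'o : ¬ p ∣ orderOf x' := by rwa [hx', Subgroup.orderOf_mk]
  have hcm : ∀ d : D, cm x' d ∈ V := by
    intro d
    obtain ⟨c, hc, hc'⟩ := C.ind D hxD hDt d d.2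
    have h1 : c = cm x' d := Subtype.ext hc'
    rw [← h1]
    exact hc
  set Z : Subgroup D := centralizer ({x'} : Set D) with hZ
  have hZi : ∃ n : ℕ, Z.index = p ^ n := by
    have hVp : IsPGroup p V := pCore_isPGroup p
    obtain ⟨n, hn⟩ := hVp.card_orbit (QuotientGroup.mk (1 : D) : D ⧸ Z)
    refine ⟨n, ?_⟩
    rw [← hn]
    have horb : MulAction.orbit V (QuotientGroup.mk (1 : D) : D ⧸ Z) = Set.univ := by
      rw [Set.eq_univ_iff_forall]
      intro e
      obtain ⟨e, rfl⟩ := QuotientGroup.mk_surjective e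
      obtain ⟨v, hv, hc⟩ := exists_mul (V := V) hVp hx'o hcm e⁻¹
      refine ⟨⟨v, hv⟩, ?_⟩
      show (QuotientGroup.mk (v * 1) : D ⧸ Z) = QuotientGroup.mk e
      rw [mul_one, QuotientGroup.eq]
      show v⁻¹ * e ∈ Z
      have h1 : e⁻¹ * v ∈ Z := mem_centralizer_singleton_iff.2 hc.symm.eq
      have h2 := inv_mem h1
      rwa [mul_inv_rev, inv_inv] at h2
    rw [horb, Subgroup.index, Nat.card_congr (Equiv.Set.univ _)]
  -- a `q`-subgroup of `D` containing `Q` equals `Q`
  have key : ∀ R : Subgroup G, R ≤ D → IsPGroup q R → Q ≤ R → R ≤ Q := by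
    intro R hRD hR hQR
    have hQD : Q ≤ D := le_normalizer
    set Q' := Q.subgroupOf D with hQ'
    have hQZ : Q' ≤ Z := by
      intro h hh
      rw [hZ, mem_centralizer_singleton_iff]
      exact Subtype.ext (hQx h hh).symm.eq
    -- `Q` is a Sylow subgroup of `Z`
    have hSyl : ¬ q ∣ (Q'.subgroupOf Z).index := by
      have hmax' : ∀ {P : Subgroup Z}, IsPGroup q P → Q'.subgroupOf Z ≤ P → P = Q'.subgroupOf Z := by
        intro P hP hle
        refine le_antisymm ?_ hle
        have h1 : (P.map Z.subtype).map D.subtype ≤ Q := by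
          refine hmax ⟨(hP.map _).map _, ?_, ?_⟩ ?_
          · refine ⟨⟨x ^ m, hQD hmQ⟩, ⟨⟨⟨x ^ m, hQD hmQ⟩, hQZ hmQ⟩, hle hmQ, rfl⟩, rfl⟩
          · rintro _ ⟨_, ⟨z, hz, rfl⟩, rfl⟩
            have := mem_centralizer_singleton_iff.1 z.2
            exact (congrArg Subtype.val this).symm
          · intro h hh
            exact ⟨⟨h, hQD hh⟩, ⟨⟨⟨h, hQD hh⟩, hQZ hh⟩, hle hh, rfl⟩, rfl⟩
        intro z hz
        exact h1 ⟨z, ⟨z, hz, rfl⟩, rfl⟩
      have hQ'q : IsPGroup q (Q'.subgroupOf Z) :=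
        (hQq.comap_of_injective _ D.subtype_injective).comap_of_injective _ Z.subtype_injective
      exact (Sylow.mk (Q'.subgroupOf Z) hQ'q hmax').not_dvd_index
    have hidx : ¬ q ∣ Q'.index := by
      have h1 : Q'.index = Q'.relIndex Z * Z.index := (relIndex_mul_index hQZ).symm
      rw [h1]
      intro h2
      rcases (hq.out.dvd_mul).1 h2 with h3 | h3
      · exact hSyl h3
      · obtain ⟨n, hn⟩ := hZi
        rw [hn] at h3
        exact hqp ((Nat.prime_dvd_prime_iff_eq hq.out hp.out).1 (hq.out.dvd_of_dvd_pow h3))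
    set R' := R.subgroupOf D with hR'
    have hle : Q' ≤ R' := fun h hh => hQR hh
    have h1 : Q'.relIndex R' ∣ Q'.index := Dvd.intro _ (relIndex_mul_index hle)
    have h2 : Q'.relIndex R' = 1 := by
      have hR'q : IsPGroup q R' := hR.comap_of_injective _ D.subtype_injective
      obtain ⟨a, ha⟩ := IsPGroup.iff_card.1 hR'q
      have h3 : Q'.relIndex R' ∣ q ^ a := by
        rw [← ha]
        exact index_dvd_card _
      obtain ⟨b, -, hb⟩ := (Nat.dvd_prime_pow hq.out).1 h3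
      rcases Nat.eq_zero_or_pos b with rfl | hb0
      · rw [hb, pow_zero]
      · exfalso
        exact hidx ((dvd_pow_self q hb0.ne').trans (hb ▸ h1))
    have h3 : R' ≤ Q' := relIndex_eq_one.1 h2
    intro r hr
    exact h3 (show (⟨r, hRD hr⟩ : D) ∈ R' from hr)
  obtain ⟨T, hT⟩ := hQq.exists_le_sylow
  have hTQ : (T : Subgroup G) = Q := by
    refine le_antisymm ?_ hT
    by_contra hne
    have hlt : Q.subgroupOf T < ⊤ := by
      refine lt_top_iff_ne_top.2 fun h => hne (subgroupOf_eq_top.1 h)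
    have hnil : Group.IsNilpotent (T : Subgroup G) := T.isPGroup'.isNilpotent
    have h1 := Group.normalizerCondition_of_isNilpotent (Q.subgroupOf T) hlt
    obtain ⟨t, ht, htQ⟩ := SetLike.exists_of_lt h1
    have h2 : (t : G) ∈ D := by
      rw [hD, mem_normalizer_iff]
      intro r
      constructor
      · intro hr
        have := (mem_normalizer_iff.1 ht ⟨r, hT hr⟩).1 hr
        exact this
      · intro hr
        have h3 : r ∈ (T : Subgroup G) := by
          have h4 := mul_mem (mul_mem (inv_mem t.2) (hT hr)) t.2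
          have e : (t : G)⁻¹ * ((t : G) * r * (t : G)⁻¹) * t = r := by group
          rwa [e] at h4
        exact (mem_normalizer_iff.1 ht ⟨r, h3⟩).2 hr
    have h3 : IsPGroup q ((Q ⊔ zpowers (t : G) : Subgroup G)) :=
      T.isPGroup'.to_le (sup_le hT (zpowers_le.2 t.2))
    have h4 : Q ⊔ zpowers (t : G) ≤ D := sup_le le_normalizer (zpowers_le.2 h2)
    exact htQ (key _ h4 h3 le_sup_left (mem_sup_right (mem_zpowers _)))
  have hTx : ∀ h ∈ (T : Subgroup G), Commute x h := fun h hh => hQx h (hTQ ▸ hh)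
  refine ⟨T, hTQ ▸ hmQ, fun g hg => ?_⟩
  -- fusion
  set s := x ^ m with hs
  have hA : ({s} : Set G) ⊆ (T : Set G) := by
    rintro _ rfl
    exact hT hmQ
  have hAg : (fun a => (g⁻¹)⁻¹ * a * g⁻¹) '' {s} ⊆ (T : Set G) := by
    rintro _ ⟨_, rfl, rfl⟩
    show g⁻¹⁻¹ * s * g⁻¹ ∈ (T : Subgroup G)
    rwa [inv_inv]
  obtain ⟨n, R, y, hprod, hy, h0, hstep⟩ := Cfsg.Agent.S0116.result T {s} g⁻¹ hA hAg
  have hcomm : ∀ i : Fin n, s ∈ ((T : Subgroup G) ⊓ (R i : Subgroup G)) → y i * s * (y i)⁻¹ = s := by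
    intro i hi
    exact C.comm_of_mem hqp (T.isPGroup'.to_le inf_le_left) (fun h hh => hTx h hh.1) hi hm (hy i).1
  have hind : ∀ i : ℕ, i ≤ n → (((List.ofFn y).take i).prod)⁻¹ * s * ((List.ofFn y).take i).prod = s := by
    intro i
    induction i with
    | zero => intro _; simp
    | succ i ih =>
      intro hi
      have hi' : i < n := hi
      have hmem : s ∈ ((T : Subgroup G) ⊓ (R ⟨i, hi'⟩ : Subgroup G)) := by
        rcases Nat.eq_zero_or_pos i with rfl | hi0
        · exact h0 hi' rfl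
        · obtain ⟨j, rfl⟩ : ∃ j, i = j + 1 := ⟨i - 1, by omega⟩
          have h1 := hstep ⟨j, by omega⟩ hi' ⟨s, rfl, rfl⟩
          have h2 := ih (by omega)
          simp only at h1
          rw [h2] at h1
          exact h1
      have h1 := hcomm ⟨i, hi'⟩ hmem
      have h2 : ((List.ofFn y).take (i + 1)).prod = ((List.ofFn y).take i).prod * y ⟨i, hi'⟩ := by
        rw [List.take_succ_eq_append_getElem (by simpa using hi'), List.prod_append, List.prod_singleton, List.getElem_ofFn]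
      rw [h2]
      have h3 := ih (by omega)
      have h4 : (y ⟨i, hi'⟩)⁻¹ * s * y ⟨i, hi'⟩ = s := by
        calc (y ⟨i, hi'⟩)⁻¹ * s * y ⟨i, hi'⟩ = (y ⟨i, hi'⟩)⁻¹ * (y ⟨i, hi'⟩ * s * (y ⟨i, hi'⟩)⁻¹) * y ⟨i, hi'⟩ := by rw [h1]
          _ = s := by group
      calc (((List.ofFn y).take i).prod * y ⟨i, hi'⟩)⁻¹ * s * (((List.ofFn y).take i).prod * y ⟨i, hi'⟩)
          = (y ⟨i, hi'⟩)⁻¹ * ((((List.ofFn y).take i).prod)⁻¹ * s * ((List.ofFn y).take i).prod) * y ⟨i, hi'⟩ := by group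
        _ = s := by rw [h3, h4]
  have hfin := hind n le_rfl
  rw [List.take_of_length_le (by simp), hprod, inv_inv] at hfin
  exact hfin

/-- With the Z*-theorem for the prime divisors of `|x|`: `p` divides the order of `x`, if all primes dividing the order of
`x` divide the order of `L`. -/
theorem dvd_order (C : Ctx p L x) (hZ : ∀ (q : ℕ) [Fact q.Prime], q ≠ p → q ∣ Nat.card L → ∀ (S : Sylow q G) (s : G),
      s ∈ (S : Subgroup G) → (∀ g : G, g * s * g⁻¹ ∈ (S : Subgroup G) → g * s * g⁻¹ = s) → InZStar q s)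
    (hL : ∀ q : ℕ, q.Prime → q ≠ p → q ∣ orderOf x → q ∣ Nat.card L) : p ∣ orderOf x := by
  by_contra hx
  have h1 : orderOf x ≠ 1 := fun h => C.ne (orderOf_eq_one_iff.1 h)
  obtain ⟨q, hq, hqx⟩ := Nat.exists_prime_and_dvd h1
  have hqf : Fact q.Prime := ⟨hq⟩
  have hqp : q ≠ p := fun h => hx (h ▸ hqx)
  obtain ⟨m, k, hk, hm⟩ := exists_pow (p := q) hqx
  obtain ⟨Q, hQ, hiso⟩ := C.isolated hx hk hm
  have hqL := hL q hq hqp hqx
  have h2 := hZ q hqp hqL Q (x ^ m) hQ hiso
  have h3 : pPrimeCore q G = ⊥ := by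
    by_contra h4
    have h5 := C.le_of_normal (pPrimeCore_normal_inst q) h4
    have h6 : q ∣ Nat.card (pPrimeCore q G) := hqL.trans (Subgroup.card_dvd_of_le h5)
    have h7 := pPrimeCore_coprime (G := G) q
    exact hq.one_lt.ne' (Nat.eq_one_of_dvd_coprimes h7 h6 dvd_rfl)
  have h4 : x ^ m ∈ centralizer (L : Set G) := by
    rw [mem_centralizer_iff]
    intro l _
    have h5 := h2 l
    rw [h3, mem_bot, mul_inv_eq_one] at h5
    calc l * x ^ m = l * x ^ m * l⁻¹ * l := by group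
      _ = x ^ m * l := by rw [h5]
  rw [C.cent, mem_bot] at h4
  exact hm h4

end Ctx

end Cfsg.Agent.H509.TwoFrame
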