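import Cfsg.Agent.H509.WeakTools

/-!
# S4095 at the prime 2: `C(y) = ⟨y⟩ × A₄` is impossible for a fixed element `y` (helper509)

* `Wk.false_of_four` : `a` of 2-power order, `a y = y`, `V` a normal four-subgroup of `C(y)` containing all 2-elements of
  `C(y)`, `t ∈ C(y)` of odd order not centralizing `V`.
-/

set_option autoImplicit false
set_option linter.unusedSectionVars false

namespace Cfsg.Agent.H509.Weak

open Subgroup Cfsg Cfsg.Agent.H516
open scoped commutatorElement Pointwise

universe u v

namespace Wk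

variable {L : Type u} [Group L] [Finite L] {a : MulAut L} (W : Wk a)

include W

theorem false_of_four {n : ℕ} (ha : a ^ 2 ^ n = 1) {y : L} (hy : a y = y) {V : Subgroup L}
    (hVC : V ≤ centralizer ({y} : Set L)) (hVn : ∀ c ∈ centralizer ({y} : Set L), ∀ v ∈ V, c * v * c⁻¹ ∈ V)
    (hV4 : Nat.card V = 4) (hV2 : ∀ v ∈ V, v * v = 1)
    (hall : ∀ c ∈ centralizer ({y} : Set L), ∀ k : ℕ, c ^ 2 ^ k = 1 → c ∈ V)
    {t : L} (ht : t ∈ centralizer ({y} : Set L)) (hto : Odd (orderOf t)) (htV : ∃ v ∈ V, t * v ≠ v * t) : False := by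
  classical
  set C := centralizer ({y} : Set L) with hC
  have hc := W.center
  have hVinv : ∀ v ∈ V, v⁻¹ = v := fun v hv => inv_eq_of_mul_eq_one_left (hV2 v hv)
  have hVa : ∀ u ∈ V, ∀ v ∈ V, u * v = v * u := by
    intro u hu v hv
    have h1 := hVinv _ (mul_mem hu hv)
    rw [mul_inv_rev, hVinv u hu, hVinv v hv] at h1
    exact h1.symm
  have hVp : IsPGroup 2 V := by
    rintro ⟨v, hv⟩
    exact ⟨1, Subtype.ext (by change v ^ 2 ^ 1 = 1; rw [pow_one, pow_two]; exact hV2 v hv)⟩
  have haC : ∀ c ∈ C, a c ∈ C := by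
    intro c hcC
    have h1 := map_centralizer (a := a) hy
    rw [← hC] at h1
    rw [← h1]
    exact ⟨c, hcC, rfl⟩
  have haV : ∀ v ∈ V, a v ∈ V := by
    intro v hv
    apply hall _ (haC v (hVC hv)) 1
    rw [pow_one, pow_two, ← map_mul, hV2 v hv, map_one]
  -- `a² = conj s` with `s ∈ V`
  obtain ⟨s, hs⟩ := W.sq a
  have hasq : ∀ g : L, a (a g) = s * g * s⁻¹ := by
    intro g
    have h1 := DFunLike.congr_fun hs g
    rw [MulAut.conj_apply] at h1
    exact h1
  have hsC : s ∈ C := by
    rw [hC, mem_centralizer_singleton_iff]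
    have h1 := hasq y
    rw [hy, hy] at h1
    rw [eq_mul_inv_iff_mul_eq] at h1
    exact h1.symm
  have hs2 : s ^ 2 ^ n = 1 := by
    apply conj_injective hc
    rw [map_pow, ← hs, map_one, ← pow_two, ← pow_mul, mul_comm, pow_mul, ha, one_pow]
  have hsV : s ∈ V := hall s hsC n hs2
  -- `a` is trivial on `C / V`
  have hsq' : ∀ g ∈ C, a (a g) * g⁻¹ ∈ V := by
    intro g hg
    rw [hasq g]
    have h1 : s * g * s⁻¹ * g⁻¹ = s * (g * s⁻¹ * g⁻¹) := by group
    rw [h1]
    exact mul_mem hsV (hVn g hg _ (inv_mem hsV))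
  have htriv : ∀ c ∈ C, (a c)⁻¹ * c ∈ V := by
    intro c hcC
    refine W.abelian hVC hVn hVp hVa haC haV hsq' ?_ hcC
    intro N hVN hNC hNn hNp g hg
    obtain ⟨k, hk⟩ := hNp ⟨g, hg⟩
    exact hall g (hNC hg) k (congrArg Subtype.val hk)
  -- `a` commutes with the action of `t` on `V`
  have hcomm : ∀ v ∈ V, a (t * v * t⁻¹) = t * a v * t⁻¹ := by
    intro v hv
    have h1 := htriv t ht
    set w := (a t)⁻¹ * t with hw
    have h2 : a t = t * w⁻¹ := by rw [hw]; group
    have h3 : w⁻¹ * a v * w = a v := by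
      have h4 := hVa _ (inv_mem h1) _ (haV v hv)
      rw [h4]
      group
    rw [map_mul, map_mul, map_inv, h2]
    calc t * w⁻¹ * a v * (t * w⁻¹)⁻¹ = t * (w⁻¹ * a v * w) * t⁻¹ := by group
      _ = t * a v * t⁻¹ := by rw [h3]
  -- a nontrivial fixed point of `a` in `V`
  have hft : Fintype V := Fintype.ofFinite V
  have hV4' : Fintype.card V = 4 := by rw [← Nat.card_eq_fintype_card]; exact hV4
  have hmapV : V.map a.toMonoidHom = V := map_eq_of_forall haV
  obtain ⟨v₁, hv₁, hv₁1, hav₁⟩ : ∃ v ∈ V, v ≠ 1 ∧ a v = v := by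
    have hf2 : Fact (Nat.Prime 2) := ⟨Nat.prime_two⟩
    set b := resAut a V hmapV with hb
    have hb2 : b ^ 2 ^ n = 1 := by
      have hbk : ∀ (k : ℕ) (v : V), (((b ^ k) v : V) : L) = (a ^ k) (v : L) := by
        intro k
        induction k with
        | zero => intro v; rfl
        | succ k ih =>
          intro v
          rw [pow_succ, pow_succ]
          change (((b ^ k) (b v) : V) : L) = (a ^ k) (a v)
          rw [ih]
          rfl
      ext v
      rw [hbk, ha]
      rfl
    have hp : IsPGroup 2 (zpowers b) := isPGroup_zpowers hb2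
    have h1 := hp.card_modEq_card_fixedPoints (α := V)
    rw [hV4] at h1
    have h2 : 2 ∣ Nat.card (MulAction.fixedPoints (zpowers b) V) := by
      rw [← Nat.modEq_zero_iff_dvd]
      exact h1.symm.trans (by decide)
    have h3 : (1 : V) ∈ MulAction.fixedPoints (zpowers b) V := by
      rintro ⟨c, hc'⟩
      exact map_one c
    have h4 : 1 < Nat.card (MulAction.fixedPoints (zpowers b) V) := by
      have h5 : 0 < Nat.card (MulAction.fixedPoints (zpowers b) V) := by
        have : Nonempty (MulAction.fixedPoints (zpowers b) V) := ⟨⟨1, h3⟩⟩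
        exact Nat.card_pos
      have := Nat.le_of_dvd h5 h2
      omega
    have : Nontrivial (MulAction.fixedPoints (zpowers b) V) := Finite.one_lt_card_iff_nontrivial.1 h4
    obtain ⟨⟨v, hv⟩, hne⟩ := exists_ne (⟨1, h3⟩ : MulAction.fixedPoints (zpowers b) V)
    refine ⟨v, v.2, ?_, ?_⟩
    · intro h5
      apply hne
      exact Subtype.ext (Subtype.ext h5)
    · have h5 : b v = v := hv ⟨b, mem_zpowers b⟩
      exact congrArg Subtype.val h5
  -- `t` does not commute with `v₁`
  have htv : t * v₁ * t⁻¹ ≠ v₁ := by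
    intro h1
    obtain ⟨v, hv, hne⟩ := htV
    apply hne
    -- the elements of `V` are `1, v₁, v, v₁ v`
    have hv1 : v ≠ 1 := by
      rintro rfl
      exact hne (by rw [mul_one, one_mul])
    have hvv1 : v ≠ v₁ := by
      rintro rfl
      apply hne
      rw [mul_inv_eq_iff_eq_mul] at h1
      exact h1
    have hset : ∀ u ∈ V, u = 1 ∨ u = v₁ ∨ u = v ∨ u = v₁ * v := by
      intro u hu
      by_contra hcon
      push Not at hcon
      obtain ⟨h2, h3, h4, h5⟩ := hcon
      have h6 : v₁ * v ≠ 1 := by
        intro h7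
        apply hvv1
        have h8 := eq_inv_of_mul_eq_one_right h7
        rw [h8, hVinv v₁ hv₁]
      have h7 : v₁ * v ≠ v₁ := fun h8 => hv1 (by
        have : v₁ * v = v₁ * 1 := by rw [h8, mul_one]
        exact mul_left_cancel this)
      have h8 : v₁ * v ≠ v := fun h9 => hv₁1 (by
        have : v₁ * v = 1 * v := by rw [h9, one_mul]
        exact mul_right_cancel this)
      have h9 : ({⟨1, one_mem V⟩, ⟨v₁, hv₁⟩, ⟨v, hv⟩, ⟨v₁ * v, mul_mem hv₁ hv⟩, ⟨u, hu⟩} : Finset V).card ≤ 4 := by
        rw [← hV4']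
        exact Finset.card_le_univ _
      rw [Finset.card_insert_of_notMem, Finset.card_insert_of_notMem, Finset.card_insert_of_notMem,
        Finset.card_insert_of_notMem, Finset.card_singleton] at h9
      · omega
      · simp only [Finset.mem_singleton, Subtype.mk.injEq]
        exact fun h => h5 h.symm
      · simp only [Finset.mem_insert, Finset.mem_singleton, Subtype.mk.injEq, not_or]
        exact ⟨fun h => h8 h.symm, fun h => h4 h.symm⟩
      · simp only [Finset.mem_insert, Finset.mem_singleton, Subtype.mk.injEq, not_or]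
        exact ⟨fun h => hvv1 h.symm, fun h => h7 h.symm, fun h => h3 h.symm⟩
      · simp only [Finset.mem_insert, Finset.mem_singleton, Subtype.mk.injEq, not_or]
        exact ⟨fun h => hv₁1 h.symm, fun h => hv1 h.symm, fun h => h6 h.symm, fun h => h2 h.symm⟩
    -- `t² ` fixes `v`, so `t` does
    have h2 : t * v * t⁻¹ ∈ V := hVn t ht v hv
    have h3 : t * v * t⁻¹ = v ∨ t * v * t⁻¹ = v₁ * v := by
      rcases hset _ h2 with h4 | h4 | h4 | h4
      · exfalso
        apply hv1
        rw [mul_inv_eq_one] at h4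
        exact mul_left_cancel (a := t) (by rw [h4, mul_one])
      · exfalso
        apply hvv1
        rw [← h1] at h4
        exact mul_left_cancel (mul_right_cancel h4)
      · exact Or.inl h4
      · exact Or.inr h4
    rcases h3 with h3 | h3
    · rw [mul_inv_eq_iff_eq_mul] at h3
      exact h3
    · -- `t² v t⁻² = v`
      have h4 : (t * t) * v * (t * t)⁻¹ = v := by
        calc (t * t) * v * (t * t)⁻¹ = t * (t * v * t⁻¹) * t⁻¹ := by group
          _ = t * (v₁ * v) * t⁻¹ := by rw [h3]
          _ = (t * v₁ * t⁻¹) * (t * v * t⁻¹) := by group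
          _ = v₁ * (v₁ * v) := by rw [h1, h3]
          _ = v := by rw [← mul_assoc, hV2 v₁ hv₁, one_mul]
      have h5 : Commute (t * t) v := by
        rw [mul_inv_eq_iff_eq_mul] at h4
        exact h4
      obtain ⟨j, hj⟩ := hto
      have h6 : (t * t) ^ (j + 1) = t := by
        rw [← pow_two, ← pow_mul]
        have h7 : 2 * (j + 1) = orderOf t + 1 := by omega
        rw [h7, pow_succ, pow_orderOf_eq_one, one_mul]
      have h7 := h5.pow_left (j + 1)
      rw [h6] at h7
      exact h7
  -- so `a` is trivial on `V`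
  have hatv : a (t * v₁ * t⁻¹) = t * v₁ * t⁻¹ := by rw [hcomm v₁ hv₁, hav₁]
  have haVt : ∀ v ∈ V, a v = v := by
    intro v hv
    set w := t * v₁ * t⁻¹ with hw
    have hwV : w ∈ V := hVn t ht v₁ hv₁
    have hw1 : w ≠ 1 := by
      intro h
      rw [hw, mul_inv_eq_one] at h
      exact hv₁1 (mul_left_cancel (a := t) (by rw [h, mul_one]))
    have h6 : v₁ * w ≠ 1 := by
      intro h7
      apply htv
      have h8 := eq_inv_of_mul_eq_one_right h7
      rw [h8, hVinv v₁ hv₁]
    have h7 : v₁ * w ≠ v₁ := fun h8 => hw1 (by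
      have : v₁ * w = v₁ * 1 := by rw [h8, mul_one]
      exact mul_left_cancel this)
    have h8 : v₁ * w ≠ w := fun h9 => hv₁1 (by
      have : v₁ * w = 1 * w := by rw [h9, one_mul]
      exact mul_right_cancel this)
    by_contra hne
    have h1 : v ≠ 1 := fun h => hne (by rw [h, map_one])
    have h2 : v ≠ v₁ := fun h => hne (by rw [h, hav₁])
    have h3 : v ≠ w := fun h => hne (by rw [h, hatv])
    have h4 : v ≠ v₁ * w := fun h => hne (by rw [h, map_mul, hav₁, hatv])
    have h9 : ({⟨1, one_mem V⟩, ⟨v₁, hv₁⟩, ⟨w, hwV⟩, ⟨v₁ * w, mul_mem hv₁ hwV⟩, ⟨v, hv⟩} : Finset V).card ≤ 4 := by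
      rw [← hV4']
      exact Finset.card_le_univ _
    rw [Finset.card_insert_of_notMem, Finset.card_insert_of_notMem, Finset.card_insert_of_notMem,
      Finset.card_insert_of_notMem, Finset.card_singleton] at h9
    · omega
    · simp only [Finset.mem_singleton, Subtype.mk.injEq]
      exact fun h => h4 h.symm
    · simp only [Finset.mem_insert, Finset.mem_singleton, Subtype.mk.injEq, not_or]
      exact ⟨fun h => h8 h.symm, fun h => h3 h.symm⟩
    · simp only [Finset.mem_insert, Finset.mem_singleton, Subtype.mk.injEq, not_or]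
      exact ⟨fun h => htv h.symm, fun h => h7 h.symm, fun h => h2 h.symm⟩
    · simp only [Finset.mem_insert, Finset.mem_singleton, Subtype.mk.injEq, not_or]
      exact ⟨fun h => hv₁1 h.symm, fun h => hw1 h.symm, fun h => h6 h.symm, fun h => h1 h.symm⟩
  -- `a²` is trivial on `C`
  have hsq1 : ∀ c ∈ C, a (a c) = c := by
    intro c hcC
    have h1 := htriv c hcC
    set w := (a c)⁻¹ * c with hw
    have h2 : a c = c * w⁻¹ := by rw [hw]; group
    rw [h2, map_mul, map_inv, h2, haVt w h1, mul_assoc, ← mul_inv_rev, hV2 w h1, inv_one, mul_one]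
  have hsc : ∀ c ∈ C, s * c = c * s := by
    intro c hcC
    have h1 := hasq c
    rw [hsq1 c hcC, eq_mul_inv_iff_mul_eq] at h1
    exact h1.symm
  -- `s = 1`
  have hs1 : s = 1 := by
    by_contra hne
    -- `s` commutes with `t`; `V = {1, s, v, s v}`
    have h1 := hsc t ht
    -- the same counting as above: `t` fixes `s ≠ 1` in `V`, so centralizes `V`
    set w := t * v₁ * t⁻¹ with hw
    have hwV : w ∈ V := hVn t ht v₁ hv₁
    have hw1 : w ≠ 1 := by
      intro h
      rw [hw, mul_inv_eq_one] at h
      exact hv₁1 (mul_left_cancel (a := t) (by rw [h, mul_one]))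
    have h6 : v₁ * w ≠ 1 := by
      intro h7
      apply htv
      have h8 := eq_inv_of_mul_eq_one_right h7
      rw [h8, hVinv v₁ hv₁]
    have h7 : v₁ * w ≠ v₁ := fun h8 => hw1 (by
      have : v₁ * w = v₁ * 1 := by rw [h8, mul_one]
      exact mul_left_cancel this)
    have h8 : v₁ * w ≠ w := fun h9 => hv₁1 (by
      have : v₁ * w = 1 * w := by rw [h9, one_mul]
      exact mul_right_cancel this)
    have hset : ∀ u ∈ V, u = 1 ∨ u = v₁ ∨ u = w ∨ u = v₁ * w := by
      intro u hu
      by_contra hcon
      push Not at hcon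
      obtain ⟨h2, h3, h4, h5⟩ := hcon
      have h9 : ({⟨1, one_mem V⟩, ⟨v₁, hv₁⟩, ⟨w, hwV⟩, ⟨v₁ * w, mul_mem hv₁ hwV⟩, ⟨u, hu⟩} : Finset V).card ≤ 4 := by
        rw [← hV4']
        exact Finset.card_le_univ _
      rw [Finset.card_insert_of_notMem, Finset.card_insert_of_notMem, Finset.card_insert_of_notMem,
        Finset.card_insert_of_notMem, Finset.card_singleton] at h9
      · omega
      · simp only [Finset.mem_singleton, Subtype.mk.injEq]
        exact fun h => h5 h.symm
      · simp only [Finset.mem_insert, Finset.mem_singleton, Subtype.mk.injEq, not_or]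
        exact ⟨fun h => h8 h.symm, fun h => h4 h.symm⟩
      · simp only [Finset.mem_insert, Finset.mem_singleton, Subtype.mk.injEq, not_or]
        exact ⟨fun h => htv h.symm, fun h => h7 h.symm, fun h => h3 h.symm⟩
      · simp only [Finset.mem_insert, Finset.mem_singleton, Subtype.mk.injEq, not_or]
        exact ⟨fun h => hv₁1 h.symm, fun h => hw1 h.symm, fun h => h6 h.symm, fun h => h2 h.symm⟩
    have hts : t * s * t⁻¹ = s := by rw [← h1]; group
    -- the image of `w` under `t`
    have htw : t * w * t⁻¹ = v₁ * w ∨ t * w * t⁻¹ = v₁ := by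
      rcases hset _ (hVn t ht w hwV) with h9 | h9 | h9 | h9
      · exfalso
        apply hw1
        rw [mul_inv_eq_one] at h9
        exact mul_left_cancel (a := t) (by rw [h9, mul_one])
      · exact Or.inr h9
      · exfalso
        apply htv
        have h10 : t * w * t⁻¹ = t * v₁ * t⁻¹ := by rw [h9]
        have h11 := mul_left_cancel (mul_right_cancel h10)
        rw [h11]
      · exact Or.inl h9
    rcases hset s hsV with h9 | h9 | h9 | h9
    · exact hne h9
    · exact htv (by rw [h9] at hts; exact hts)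
    · rw [h9] at hts
      rcases htw with h10 | h10
      · exact h8 (h10.symm.trans hts)
      · exact htv (hts.symm.trans h10)
    · rw [h9] at hts
      have h11 : t * (v₁ * w) * t⁻¹ = w * (t * w * t⁻¹) := by rw [hw]; group
      rw [h11] at hts
      rcases htw with h10 | h10
      · rw [h10, ← mul_assoc, hVa w hwV v₁ hv₁] at hts
        have h12 : w = 1 := by
          have : v₁ * w * w = v₁ * w * 1 := by rw [hts, mul_one]
          exact mul_left_cancel this
        exact hw1 h12
      · -- `t` swaps `v₁` and `w`: impossible, `t` has odd order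
        have h12 : (t * t) * v₁ * (t * t)⁻¹ = v₁ := by
          calc (t * t) * v₁ * (t * t)⁻¹ = t * w * t⁻¹ := by rw [hw]; group
            _ = v₁ := h10
        have h13 : Commute (t * t) v₁ := by
          rw [mul_inv_eq_iff_eq_mul] at h12
          exact h12
        obtain ⟨j, hj⟩ := hto
        have h14 : (t * t) ^ (j + 1) = t := by
          rw [← pow_two, ← pow_mul]
          have h15 : 2 * (j + 1) = orderOf t + 1 := by omega
          rw [h15, pow_succ, pow_orderOf_eq_one, one_mul]
        have h15 := h13.pow_left (j + 1)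
        rw [h14] at h15
        apply htv
        rw [hw, mul_inv_eq_iff_eq_mul]
        exact h15
  rw [hs1, map_one] at hs
  exact W.sq_ne_one hs

end Wk

end Cfsg.Agent.H509.Weak
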