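import Cfsg.Agent.H509.WeakBlock
import Cfsg.Agent.HKS.BlockDicho
import Cfsg.Agent.H526.OneBlock
import Cfsg.Agent.S4487
import Cfsg.Agent.S0936
import Cfsg.Agent.Blocks.CentralizerSum

/-!
# S4095 at the prime 2: two 2-blocks and centralizers with one 2-block (helper509)

* `oneB_of_bad` : if the 2-element `x` is bad in `G` and `C_G(x)` has one 2-block, then `G` has one 2-block;
* `Wk.false_of_nb` : `a = conj x`, `x` a 2-element, `L` has at least two 2-blocks and `C_L(x)` has one: impossible;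
* `Wk.false_of_constrained` : the same if `C_C(O_2(C)) ≤ O_2(C)` and `O_{2'}(C) = 1` for `C = C_L(x)`.
-/

set_option autoImplicit false
set_option linter.unusedSectionVars false

namespace Cfsg.Agent.H509.Weak

open Subgroup Cfsg Cfsg.Agent.H516
open Cfsg.Agent.H652.Four
open Cfsg.Agent.H472.ComRed (cm)
open Cfsg.Agent.Blocks
open Cfsg.Agent.Characters.Core

universe u

/-- If the `2`-element `x` is bad and `C_G(x)` has one 2-block, `G` has one 2-block. -/
theorem oneB_of_bad {G : Type u} [Group G] [Finite G] {x : G} {M : Ideal AlgInt} (hM : IsPModular 2 M)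
    (hbad : ∀ g : G, cm x g = 1 ∨ 2 ∣ orderOf (cm x g)) (hx : ∃ k : ℕ, orderOf x = 2 ^ k)
    (hC : H526.OB.OneB M ↥(centralizer ({x} : Set G))) : H526.OB.OneB M G := by
  classical
  have h2f : Fact (Nat.Prime 2) := ⟨Nat.prime_two⟩
  have hMp : M.IsPrime := hM.2.1.isPrime
  intro χ₀
  have hB : IsPBlock M (blockOf M (χ₀ : G → ℂ)) := Basic.isPBlock_blockOf χ₀
  obtain ⟨χ, hχ, hχx⟩ := BadBlock.exists_ne_zero hM hbad hB
  have hB' : blockOf M (χ₀ : G → ℂ) = blockOf M (χ : G → ℂ) := Basic.isPBlock_eq_blockOf hB hχ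
  have := Fintype.ofFinite ↥(centralizer ({x} : Set G))
  have := finite_irr (G := ↥(centralizer ({x} : Set G)))
  have := Fintype.ofFinite (IrrCharacter ↥(centralizer ({x} : Set G)))
  have h1 := HKS.BlockDicho.expansion 2 hM hx χ (C := centralizer ({x} : Set G)) rfl 1
    (by rw [orderOf_one]; norm_num)
  obtain ⟨ψ, hψ⟩ : ∃ ψ : IrrCharacter ↥(centralizer ({x} : Set G)),
      IsInducedBlock M (centralizer ({x} : Set G)) (blockOf M (ψ : _ → ℂ)) (blockOf M (χ : G → ℂ)) := by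
    by_contra hcon
    push Not at hcon
    apply hχx
    have h2 : (χ : G → ℂ) x = (χ : G → ℂ) (x * ((1 : ↥(centralizer ({x} : Set G))) : G)) := by
      rw [OneMemClass.coe_one, mul_one]
    rw [h2, h1]
    refine Finset.sum_eq_zero fun ψ hψ => ?_
    exact absurd (Finset.mem_filter.1 hψ).2 (hcon ψ)
  have hψp : blockOf M (ψ : _ → ℂ) = principalBlock M ↥(centralizer ({x} : Set G)) := by
    have h2 : SameBlock M (fun _ => (1 : ℂ)) (ψ : ↥(centralizer ({x} : Set G)) → ℂ) := hC ψ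
    exact (Basic.blockOf_eq_of_sameBlock h2).symm
  have hdef : InducedBlockDefined M (centralizer ({x} : Set G)) (blockOf M (ψ : _ → ℂ)) := ⟨_, hψ⟩
  have h3 := (Cfsg.Agent.S0936.result 2 M hM (centralizer ({x} : Set G)) _ hdef).2 hψp
  -- both are the induced block
  have h4 : blockOf M (χ : G → ℂ) = principalBlock M G := CentralizerSum.inducedBlock_unique hψ h3
  rw [← hB'] at h4
  rw [← h4]
  exact Basic.mem_blockOf_self χ₀

/-- badness of an inner automorphism -/
theorem bad_of_conj {L : Type*} [Group L] {x : L} (h : Bad 2 (MulAut.conj x)) (g : L) :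
    cm x g = 1 ∨ 2 ∣ orderOf (cm x g) := by
  -- `cm x g = x⁻¹ g⁻¹ x g`; with `s = x⁻¹ g x`: `(conj x s)⁻¹ s = g⁻¹ x⁻¹ g x`, conjugate to `cm x g`
  have h1 := h (x⁻¹ * g * x)
  have h3 : (MulAut.conj x (x⁻¹ * g * x))⁻¹ * (x⁻¹ * g * x) = g⁻¹ * (x⁻¹ * g * x) := by
    rw [MulAut.conj_apply]
    group
  rw [h3] at h1
  -- `(g⁻¹ x⁻¹ g x)⁻¹ = x⁻¹ g⁻¹ x g = cm x g`
  have h4 : cm x g = (g⁻¹ * (x⁻¹ * g * x))⁻¹ := by
    simp only [cm]
    group
  rcases h1 with h5 | h5
  · left
    rw [h4, h5, inv_one]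
  · right
    rw [h4, orderOf_inv]
    exact h5

namespace Wk

variable {L : Type u} [Group L] [Finite L] {a : MulAut L} (W : Wk a)

include W

/-- **(NB)** -/
theorem false_of_nb {x : L} (hx : a = MulAut.conj x) (h2 : ∃ k : ℕ, orderOf x = 2 ^ k) (hNB : H526.OB.NB L)
    (hC : ∀ M : Ideal AlgInt, IsPModular 2 M → H526.OB.OneB M ↥(centralizer ({x} : Set L))) : False := by
  obtain ⟨M, hM⟩ := exists_two_modular
  subst hx
  exact hNB.not_oneB hM (oneB_of_bad hM (bad_of_conj W.bad) h2 (hC M hM))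

/-- **(NB)**, constrained centralizer. -/
theorem false_of_constrained {x : L} (hx : a = MulAut.conj x) (h2 : ∃ k : ℕ, orderOf x = 2 ^ k) (hNB : H526.OB.NB L)
    (hcore : pPrimeCore 2 ↥(centralizer ({x} : Set L)) = ⊥)
    (hconstr : centralizer ((pCore 2 ↥(centralizer ({x} : Set L)) : Subgroup _) : Set ↥(centralizer ({x} : Set L))) ≤
      pCore 2 ↥(centralizer ({x} : Set L))) : False := by
  have h2f : Fact (Nat.Prime 2) := ⟨Nat.prime_two⟩
  exact W.false_of_nb hx h2 hNB fun M hM χ =>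
    Cfsg.Agent.S4487.result 2 M hM hcore hconstr ⟨fun _ => 1, Basic.isIrrCharacter_one⟩ χ

end Wk

end Cfsg.Agent.H509.Weak
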