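import Cfsg.Agent.H509.Weak

/-!
# S4095 at the prime 2: elementary tools (helper509)

* `mem_pCore_of_inv` : an automorphism `α` of `D` with `α² = 1` inverting no element of odd prime order satisfies
  `(α d)⁻¹ d ∈ O_2(D)` for all `d`  (Baer–Suzuki);
* `Wk.core` (K3) : for `D = C_L(a²)`: `(a d)⁻¹ d ∈ O_2(D)` for all `d ∈ D`;
* `Wk.card_le_mul` (K11) : `|D| ≤ |O_2(D)| |C_L(a)|`; `Wk.exists_prime` : if `m ∣ |D|`, `|O_2(D)| < m`, then `a` fixes an
  element of prime order `q ∣ m`;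
* `Wk.eq_one_of_inv` : `V` an abelian 2-subgroup, `d` a `q`-element normalizing `V`, `q` odd, `a` normalizes `V` and
  `a d ∈ V d⁻¹`: then `d = 1`;
* `Wk.abelian` (K9) : `H` invariant, `V` an invariant normal abelian 2-subgroup of `H`, `O_2(H/V) = 1`, `a²` trivial on `H/V`:
  then `a` is trivial on `H/V`.
-/

set_option autoImplicit false
set_option linter.unusedSectionVars false

namespace Cfsg.Agent.H509.Weak

open Subgroup Cfsg Cfsg.Agent.H516
open scoped commutatorElement Pointwise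

universe u v

/-! ### Baer–Suzuki for automorphisms -/

theorem exists_prime_inv {D : Type*} [Group D] [Finite D] {α : MulAut D} {d : D} (hd : d ≠ 1) (ho : Odd (orderOf d))
    (h : α d = d⁻¹) : ∃ e : D, (orderOf e).Prime ∧ orderOf e ≠ 2 ∧ α e = e⁻¹ := by
  have h1 : orderOf d ≠ 1 := fun h1 => hd (orderOf_eq_one_iff.1 h1)
  obtain ⟨q, hq, k, hk⟩ := Nat.exists_prime_and_dvd h1
  have hk0 : k ≠ 0 := by
    rintro rfl
    rw [mul_zero] at hk
    exact (orderOf_pos d).ne' hk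
  have h2 : orderOf (d ^ k) = q := by
    rw [orderOf_pow_of_dvd hk0 (by rw [hk]; exact dvd_mul_left _ _), hk, Nat.mul_div_cancel _ (Nat.pos_of_ne_zero hk0)]
  refine ⟨d ^ k, by rw [h2]; exact hq, ?_, ?_⟩
  · rw [h2]
    rintro rfl
    exact (Nat.not_even_iff_odd.2 ho) (even_iff_two_dvd.2 (by rw [hk]; exact dvd_mul_right _ _))
  · rw [map_pow, h, inv_pow]

/-- **Baer–Suzuki for automorphisms.** -/
theorem mem_pCore_of_inv {D : Type*} [Group D] [Finite D] {α : MulAut D} (h2 : α * α = 1)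
    (h : ∀ e : D, (orderOf e).Prime → orderOf e ≠ 2 → α e ≠ e⁻¹) (d : D) : (α d)⁻¹ * d ∈ pCore 2 D := by
  by_cases h1 : α = 1
  · rw [h1]
    change d⁻¹ * d ∈ _
    rw [inv_mul_cancel]
    exact one_mem _
  let G := D ⋊[(zpowers α).subtype] (zpowers α)
  have hfin : Finite (MulAut D) := Finite.of_injective (fun f : MulAut D => (f : D → D)) DFunLike.coe_injective
  have hfG : Finite G := Finite.of_equiv _ SemidirectProduct.equivProd.symm
  let t : G := SemidirectProduct.inr ⟨α, mem_zpowers α⟩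
  have hoα : orderOf α = 2 := orderOf_eq_prime (by rw [pow_two]; exact h2) h1
  have ht : orderOf t = 2 := by
    have h3 := orderOf_injective (SemidirectProduct.inr : zpowers α →* G) SemidirectProduct.inr_injective
      ⟨α, mem_zpowers α⟩
    rw [Subgroup.orderOf_mk, hoα] at h3
    exact h3
  have hti : ∀ e : D, t * SemidirectProduct.inl e * t⁻¹ = SemidirectProduct.inl (α e) := by
    intro e
    have h3 := SemidirectProduct.inl_aut (φ := (zpowers α).subtype) ⟨α, mem_zpowers α⟩ e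
    rw [← map_inv] 
    exact h3.symm
  by_cases hN : ∃ N : Subgroup G, N.Normal ∧ IsPGroup 2 N ∧ t ∈ N
  · obtain ⟨N, hN, hN2, htN⟩ := hN
    have h3 : N.comap (SemidirectProduct.inl : D →* G) ≤ pCore 2 D :=
      Lib.Cores.le_pCore (hN.comap _) (hN2.comap_of_injective _ SemidirectProduct.inl_injective)
    apply h3
    rw [mem_comap, map_mul, map_inv, ← hti]
    have h4 : (t * SemidirectProduct.inl d * t⁻¹)⁻¹ * (SemidirectProduct.inl d : G) =
        t * ((SemidirectProduct.inl d : G)⁻¹ * t⁻¹ * (SemidirectProduct.inl d : G)⁻¹⁻¹) := by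
      rw [mul_inv_rev, mul_inv_rev, inv_inv, inv_inv]
      simp only [mul_assoc]
    rw [h4]
    exact mul_mem htN (hN.conj_mem _ (inv_mem htN) _)
  · exfalso
    push Not at hN
    obtain ⟨g, hg1, hgo, hg⟩ := Cfsg.Agent.S0200.result t ht (fun N hN' hN2 htN => hN N hN' hN2 htN)
    have h3 : SemidirectProduct.rightHom g = 1 := by
      have h4 : orderOf (SemidirectProduct.rightHom g) ∣ orderOf g := orderOf_map_dvd _ g
      have h5 : orderOf (SemidirectProduct.rightHom g) ∣ 2 := by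
        rw [← hoα, ← Nat.card_zpowers α]
        exact _root_.orderOf_dvd_natCard _
      rcases (Nat.dvd_prime Nat.prime_two).1 h5 with h6 | h6
      · exact orderOf_eq_one_iff.1 h6
      · rw [h6] at h4
        exact absurd (even_iff_two_dvd.2 h4) (Nat.not_even_iff_odd.2 hgo)
    have h4 : g ∈ (SemidirectProduct.inl : D →* G).range := by
      rw [SemidirectProduct.range_inl_eq_ker_rightHom]
      exact h3
    obtain ⟨e, rfl⟩ := h4
    rw [hti, ← map_inv] at hg
    have h5 := SemidirectProduct.inl_injective hg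
    have h6 : e ≠ 1 := by
      rintro rfl
      exact hg1 (map_one _)
    rw [orderOf_injective (SemidirectProduct.inl : D →* G) SemidirectProduct.inl_injective] at hgo
    obtain ⟨f, hf, hf2, hf3⟩ := exists_prime_inv h6 hgo h5
    exact h f hf hf2 hf3

/-! ### Conjugates in a coset of a 2-subgroup -/

/-- `q`-elements in the same coset of a 2-subgroup they normalize are conjugate under it. -/
theorem exists_conj_coset {L : Type*} [Group L] [Finite L] {V : Subgroup L} (hV : IsPGroup 2 V) {q k : ℕ} (hq : q.Prime)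
    (hq2 : q ≠ 2) {e f : L} (he : e ^ q ^ k = 1) (hf : f ^ q ^ k = 1) (hfV : ∀ v ∈ V, f * v * f⁻¹ ∈ V)
    (hef : e * f⁻¹ ∈ V) : ∃ v ∈ V, e = v * f * v⁻¹ := by
  have hqf : Fact q.Prime := ⟨hq⟩
  have hfV' : ∀ v : V, e * v * f⁻¹ ∈ V := by
    intro v
    have h1 : e * (v : L) * f⁻¹ = e * f⁻¹ * (f * v * f⁻¹) := by group
    rw [h1]
    exact mul_mem hef (hfV v v.2)
  let π : V → V := fun v => ⟨e * v * f⁻¹, hfV' v⟩
  have hπ : Function.Injective π := by
    intro v w hvw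
    have h1 : e * (v : L) * f⁻¹ = e * w * f⁻¹ := congrArg Subtype.val hvw
    exact Subtype.ext (mul_left_cancel (mul_right_cancel h1))
  let σ : Equiv.Perm V := Equiv.ofBijective π ((Finite.injective_iff_bijective).1 hπ)
  have hσ : ∀ v : V, ((σ v : V) : L) = e * v * f⁻¹ := fun _ => rfl
  have hσn : ∀ (n : ℕ) (v : V), (((σ ^ n) v : V) : L) = e ^ n * v * (f ^ n)⁻¹ := by
    intro n
    induction n with
    | zero => intro v; simp
    | succ n ih =>
      intro v
      rw [pow_succ', Equiv.Perm.mul_apply, hσ, ih, pow_succ', pow_succ f n]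
      group
  have hσ1 : σ ^ q ^ k = 1 := by
    ext v
    rw [hσn, he, hf]
    simp
  have hp : IsPGroup q (zpowers σ) := isPGroup_zpowers hσ1
  have h1 := hp.card_modEq_card_fixedPoints (α := V)
  obtain ⟨n, hn⟩ := IsPGroup.iff_card.1 hV
  by_contra hcon
  have h2 : IsEmpty (MulAction.fixedPoints (zpowers σ) V) := by
    refine ⟨?_⟩
    rintro ⟨v, hv⟩
    apply hcon
    refine ⟨v, v.2, ?_⟩
    have h3 : σ v = v := hv ⟨σ, mem_zpowers σ⟩
    have h4 : e * (v : L) * f⁻¹ = v := congrArg Subtype.val h3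
    rw [eq_mul_inv_iff_mul_eq]
    exact mul_inv_eq_iff_eq_mul.1 h4
  rw [Nat.card_eq_zero.2 (Or.inl h2), hn, Nat.modEq_zero_iff_dvd] at h1
  exact hq2 ((Nat.prime_dvd_prime_iff_eq hq Nat.prime_two).1 (hq.dvd_of_dvd_pow h1))

/-- Commutators with powers, in an abelian normalized subgroup. -/
theorem exists_comm_pow {L : Type*} [Group L] {V : Subgroup L} (hVa : ∀ u ∈ V, ∀ v ∈ V, u * v = v * u) {e : L}
    (heV : ∀ v ∈ V, e * v * e⁻¹ ∈ V) {v : L} (hv : v ∈ V) (j : ℕ) :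
    ∃ u ∈ V, u * e * u⁻¹ * e⁻¹ = v * e ^ j * v⁻¹ * (e ^ j)⁻¹ := by
  have hpow : ∀ (n : ℕ), ∀ w ∈ V, e ^ n * w * (e ^ n)⁻¹ ∈ V := by
    intro n
    induction n with
    | zero => intro w hw; simpa using hw
    | succ n ih =>
      intro w hw
      have h1 : e ^ (n + 1) * w * (e ^ (n + 1))⁻¹ = e * (e ^ n * w * (e ^ n)⁻¹) * e⁻¹ := by
        rw [pow_succ']
        group
      rw [h1]
      exact heV _ (ih w hw)
  induction j with
  | zero => exact ⟨1, one_mem _, by simp⟩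
  | succ j ih =>
    obtain ⟨u, hu, huv⟩ := ih
    set w := e ^ j * v * (e ^ j)⁻¹ with hw
    have hwV : w ∈ V := hpow j v hv
    refine ⟨u * w, mul_mem hu hwV, ?_⟩
    -- `[u w, e] = [u, e] [w, e]`
    have h1 : e * w * e⁻¹ ∈ V := heV w hwV
    have h2 : e * u * e⁻¹ ∈ V := heV u hu
    have h3 : w * (e * w⁻¹ * e⁻¹) ∈ V := mul_mem hwV (by
      have := inv_mem h1
      have h4 : (e * w * e⁻¹)⁻¹ = e * w⁻¹ * e⁻¹ := by group
      rwa [h4] at this)
    have h4 : e * u⁻¹ * e⁻¹ ∈ V := by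
      have := inv_mem h2
      have h4 : (e * u * e⁻¹)⁻¹ = e * u⁻¹ * e⁻¹ := by group
      rwa [h4] at this
    have h5 : u * w * e * (u * w)⁻¹ * e⁻¹ = (u * e * u⁻¹ * e⁻¹) * (w * (e * w⁻¹ * e⁻¹)) := by
      calc u * w * e * (u * w)⁻¹ * e⁻¹ = u * ((w * (e * w⁻¹ * e⁻¹)) * (e * u⁻¹ * e⁻¹)) := by group
        _ = u * ((e * u⁻¹ * e⁻¹) * (w * (e * w⁻¹ * e⁻¹))) := by rw [hVa _ h3 _ h4]
        _ = (u * e * u⁻¹ * e⁻¹) * (w * (e * w⁻¹ * e⁻¹)) := by group
    rw [h5, huv, hw, pow_succ]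
    group

/-- A product `v d v⁻¹ d` is conjugate to `d ^ 2`. -/
theorem exists_conj_sq {L : Type*} [Group L] {V : Subgroup L} (hVa : ∀ u ∈ V, ∀ v ∈ V, u * v = v * u) {d : L} {m : ℕ}
    (hm : Odd m) (hd : d ^ m = 1) (hdV : ∀ v ∈ V, d * v * d⁻¹ ∈ V) {v : L} (hv : v ∈ V) :
    ∃ u ∈ V, v * d * v⁻¹ * d = u * (d * d) * u⁻¹ := by
  obtain ⟨j, hj⟩ := hm
  have h1 : (d * d) ^ (j + 1) = d := by
    rw [← pow_two, ← pow_mul]
    have h2 : 2 * (j + 1) = m + 1 := by omega
    rw [h2, pow_succ, hd, one_mul]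
  have heV : ∀ v ∈ V, (d * d) * v * (d * d)⁻¹ ∈ V := by
    intro v hv
    have h2 : (d * d) * v * (d * d)⁻¹ = d * (d * v * d⁻¹) * d⁻¹ := by group
    rw [h2]
    exact hdV _ (hdV v hv)
  obtain ⟨u, hu, huv⟩ := exists_comm_pow hVa heV hv (j + 1)
  rw [h1] at huv
  refine ⟨u, hu, ?_⟩
  calc v * d * v⁻¹ * d = (v * d * v⁻¹ * d⁻¹) * (d * d) := by group
    _ = (u * (d * d) * u⁻¹ * (d * d)⁻¹) * (d * d) := by rw [huv]
    _ = u * (d * d) * u⁻¹ := by group

namespace Wk

variable {L : Type u} [Group L] [Finite L] {a : MulAut L} (W : Wk a)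

include W

theorem map_fixed_sq : (fixedSubgroup (a * a)).map a.toMonoidHom = fixedSubgroup (a * a) := by
  refine map_eq_of_forall fun s hs => ?_
  change a (a (a s)) = a s
  have h1 : a (a s) = s := hs
  rw [h1]

/-- **(K3)** -/
theorem core {d : L} (hd : a (a d) = d) :
    (a d)⁻¹ * d ∈ (pCore 2 ↥(fixedSubgroup (a * a))).map (fixedSubgroup (a * a)).subtype := by
  set D := fixedSubgroup (a * a) with hD
  set α := resAut a D W.map_fixed_sq with hα
  have h2 : α * α = 1 := by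
    ext s
    have h3 : a (a (s : L)) = s := s.2
    exact h3
  have h := mem_pCore_of_inv (D := D) h2 (fun e he he2 hcon => by
    have h3 : a (e : L) = (e : L)⁻¹ := congrArg Subtype.val hcon
    have h4 : Odd (orderOf (e : L)) := by
      rw [Subgroup.orderOf_coe]
      exact he.odd_of_ne_two he2
    have h5 : a (e : L) = e := by
      apply W.fix_of_odd
      rw [h3, inv_inv]
      have h6 : orderOf ((e : L) * e) ∣ orderOf (e : L) := by
        rw [← pow_two]
        exact orderOf_pow_dvd 2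
      exact h4.of_dvd_nat h6
    rw [h5] at h3
    have h6 : (e : L) ^ 2 = 1 := by
      rw [pow_two]
      nth_rewrite 1 [h3]
      rw [inv_mul_cancel]
    have h7 : orderOf (e : L) ∣ 2 := orderOf_dvd_of_pow_eq_one h6
    rw [Subgroup.orderOf_coe] at h7
    rcases (Nat.dvd_prime Nat.prime_two).1 h7 with h8 | h8
    · rw [h8] at he
      exact Nat.not_prime_one he
    · exact he2 h8) ⟨d, hd⟩
  exact ⟨_, h, rfl⟩

/-- **(K11)** : `|D| ≤ |O_2(D)| |C_L(a)|`, `D = C_L(a²)`. -/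
theorem card_le_mul : Nat.card (fixedSubgroup (a * a)) ≤
    Nat.card ↥(pCore 2 ↥(fixedSubgroup (a * a))) * Nat.card (fixedSubgroup a) := by
  set D := fixedSubgroup (a * a) with hD
  set R := (pCore 2 D).map D.subtype with hR
  have hRc : Nat.card R = Nat.card (pCore 2 D) :=
    Nat.card_congr ((pCore 2 D).equivMapOfInjective D.subtype D.subtype_injective).symm.toEquiv
  have hFD : fixedSubgroup a ≤ D := by
    intro s hs
    change a (a s) = s
    have h1 : a s = s := hs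
    rw [h1, h1]
  -- the quotient of `D` by `C(a)` injects into `R`
  set F := (fixedSubgroup a).subgroupOf D with hF
  have hFc : Nat.card F = Nat.card (fixedSubgroup a) :=
    Nat.card_congr (Subgroup.subgroupOfEquivOfLe hFD).toEquiv
  let f : D ⧸ F → R := Quotient.lift (fun s : D => (⟨a s * (s : L)⁻¹, by
      have h1 : a (a (s⁻¹ : L)) = (s⁻¹ : L) := (D.inv_mem s.2)
      have h2 := W.core h1
      rw [map_inv, inv_inv] at h2
      exact h2⟩ : R)) (by
    intro s t hst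
    have h1 : s⁻¹ * t ∈ F := QuotientGroup.leftRel_apply.1 hst
    have h2 : a ((s : L)⁻¹ * t) = (s : L)⁻¹ * t := h1
    apply Subtype.ext
    change a s * (s : L)⁻¹ = a t * (t : L)⁻¹
    have h3 : (t : L) = s * ((s : L)⁻¹ * t) := by group
    have h4 : a (t : L) = a s * ((s : L)⁻¹ * t) := by
      rw [h3, map_mul, h2]
      group
    rw [h4]
    group)
  have hinj : Function.Injective f := by
    intro x y
    induction x using QuotientGroup.induction_on with
    | H s =>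
      induction y using QuotientGroup.induction_on with
      | H t =>
        intro h
        have h1 : a (s : L) * (s : L)⁻¹ = a t * (t : L)⁻¹ := congrArg Subtype.val h
        rw [QuotientGroup.eq]
        change a ((s : L)⁻¹ * t) = (s : L)⁻¹ * t
        rw [map_mul, map_inv]
        have h2 : a (t : L) = a s * (s : L)⁻¹ * t := by rw [h1]; group
        rw [h2]
        group
  have h1 : Nat.card (D ⧸ F) ≤ Nat.card R := Nat.card_le_card_of_injective f hinj
  have h2 := F.card_eq_card_quotient_mul_card_subgroup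
  rw [h2, hFc, ← hRc]
  exact Nat.mul_le_mul_right _ h1

/-- **(K11)** : fixed elements of prime order. -/
theorem exists_prime {m : ℕ} (hm : m ∣ Nat.card (fixedSubgroup (a * a)))
    (hlt : Nat.card ↥(pCore 2 ↥(fixedSubgroup (a * a))) < m) :
    ∃ q : ℕ, q.Prime ∧ q ∣ m ∧ ∃ y : L, a y = y ∧ orderOf y = q := by
  by_contra hcon
  have hcop : (Nat.card (fixedSubgroup a)).Coprime m := by
    rw [Nat.coprime_iff_gcd_eq_one]
    by_contra hg
    obtain ⟨q, hq, hqg⟩ := Nat.exists_prime_and_dvd hg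
    have hqf : Fact q.Prime := ⟨hq⟩
    obtain ⟨y, hy⟩ := exists_prime_orderOf_dvd_card' (G := fixedSubgroup a) q (hqg.trans (Nat.gcd_dvd_left _ _))
    exact hcon ⟨q, hq, hqg.trans (Nat.gcd_dvd_right _ _), y, y.2, by rw [Subgroup.orderOf_coe]; exact hy⟩
  have hFD : fixedSubgroup a ≤ fixedSubgroup (a * a) := by
    intro s hs
    change a (a s) = s
    have h1 : a s = s := hs
    rw [h1, h1]
  have h1 : Nat.card (fixedSubgroup a) * m ∣ Nat.card (fixedSubgroup (a * a)) :=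
    hcop.mul_dvd_of_dvd_of_dvd (Subgroup.card_dvd_of_le hFD) hm
  have h2 := Nat.le_of_dvd Nat.card_pos h1
  have h3 := W.card_le_mul
  have h4 : 0 < Nat.card (fixedSubgroup a) := Nat.card_pos
  have h5 : Nat.card (fixedSubgroup a) * m ≤ Nat.card (fixedSubgroup a) * Nat.card ↥(pCore 2 ↥(fixedSubgroup (a * a))) := by
    calc Nat.card (fixedSubgroup a) * m ≤ Nat.card (fixedSubgroup (a * a)) := h2
      _ ≤ _ := h3
      _ = _ := mul_comm _ _
  have h6 := Nat.le_of_mul_le_mul_left h5 h4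
  omega

/-- **Elements inverted modulo an abelian 2-subgroup.** -/
theorem eq_one_of_inv {V : Subgroup L} (hV : IsPGroup 2 V) (hVa : ∀ u ∈ V, ∀ v ∈ V, u * v = v * u) {q k : ℕ}
    (hq : q.Prime) (hq2 : q ≠ 2) {d : L} (hd : d ^ q ^ k = 1) (hdV : ∀ v ∈ V, d * v * d⁻¹ ∈ V)
    (had : a d * d ∈ V) : d = 1 := by
  have hodd : Odd (q ^ k) := (hq.odd_of_ne_two hq2).pow
  have hdV' : ∀ v ∈ V, d⁻¹ * v * d⁻¹⁻¹ ∈ V := by
    have h1 : ∀ (n : ℕ), ∀ v ∈ V, d ^ n * v * (d ^ n)⁻¹ ∈ V := by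
      intro n
      induction n with
      | zero => intro v hv; simpa using hv
      | succ n ih =>
        intro v hv
        have h2 : d ^ (n + 1) * v * (d ^ (n + 1))⁻¹ = d * (d ^ n * v * (d ^ n)⁻¹) * d⁻¹ := by
          rw [pow_succ']
          group
        rw [h2]
        exact hdV _ (ih v hv)
    intro v hv
    have h2 := h1 (q ^ k - 1) v hv
    have h3 : d ^ (q ^ k - 1) = d⁻¹ := by
      rw [eq_inv_iff_mul_eq_one, ← pow_succ, Nat.sub_add_cancel (pow_pos hq.pos k), hd]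
    rwa [h3] at h2
  obtain ⟨v, hv, hav⟩ := exists_conj_coset hV hq hq2 (e := a d) (f := d⁻¹) (k := k)
    (by rw [← map_pow, hd, map_one]) (by rw [inv_pow, hd, inv_one]) hdV' (by rwa [inv_inv])
  obtain ⟨u, hu, huc⟩ := exists_conj_sq hVa hodd hd hdV hv
  have h1 : (a d)⁻¹ * d = u * (d * d) * u⁻¹ := by
    rw [← huc, hav]
    group
  have h2 : a d = d := by
    apply W.fix_of_odd
    have h3 : orderOf ((a d)⁻¹ * d) = orderOf (d * d) := by
      rw [h1]
      exact MulEquiv.orderOf_eq (MulAut.conj u) (d * d)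
    rw [h3]
    have h4 : orderOf (d * d) ∣ q ^ k := by
      apply orderOf_dvd_of_pow_eq_one
      rw [← pow_two, ← pow_mul, mul_comm, pow_mul, hd, one_pow]
    exact hodd.of_dvd_nat h4
  rw [h2] at had
  obtain ⟨n, hn⟩ := hV ⟨d * d, had⟩
  have hn' : (d * d) ^ 2 ^ n = 1 := congrArg Subtype.val hn
  rw [← pow_two, ← pow_mul] at hn'
  have h3 : orderOf d ∣ q ^ k := orderOf_dvd_of_pow_eq_one hd
  have h4 : orderOf d ∣ 2 ^ (n + 1) := by
    rw [pow_succ']
    exact orderOf_dvd_of_pow_eq_one hn'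
  have h5 : (q ^ k).Coprime (2 ^ (n + 1)) :=
    Nat.Coprime.pow _ _ ((Nat.coprime_primes hq Nat.prime_two).2 hq2)
  exact orderOf_eq_one_iff.1 (Nat.eq_one_of_dvd_coprimes h5 h3 h4)

/-- **(K9)** : abelian normal 2-subgroups. -/
theorem abelian {H V : Subgroup L} (hVH : V ≤ H) (hn : ∀ h ∈ H, ∀ v ∈ V, h * v * h⁻¹ ∈ V) (hV : IsPGroup 2 V)
    (hVa : ∀ u ∈ V, ∀ v ∈ V, u * v = v * u) (haH : ∀ h ∈ H, a h ∈ H) (haV : ∀ v ∈ V, a v ∈ V)
    (hsq : ∀ h ∈ H, a (a h) * h⁻¹ ∈ V)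
    (hO : ∀ N : Subgroup L, V ≤ N → N ≤ H → (∀ h ∈ H, ∀ n ∈ N, h * n * h⁻¹ ∈ N) → IsPGroup 2 N → N ≤ V)
    {h : L} (hh : h ∈ H) : (a h)⁻¹ * h ∈ V := by
  have hVn : (V.subgroupOf H).Normal := by
    refine ⟨fun v hv g => ?_⟩
    exact hn g g.2 v hv
  have hmH : H.map a.toMonoidHom = H := map_eq_of_forall haH
  set b := resAut a H hmH with hb
  have hmV : (V.subgroupOf H).map b.toMonoidHom = V.subgroupOf H := by
    refine map_eq_of_forall fun s hs => ?_
    exact haV s hs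
  set α := quotAut b (V.subgroupOf H) hmV with hα
  have hαmk : ∀ s : H, α (QuotientGroup.mk s) = QuotientGroup.mk (b s) := fun s =>
    quotAut_mk (a := b) (V.subgroupOf H) hmV s
  have h2 : α * α = 1 := by
    ext x
    induction x using QuotientGroup.induction_on with
    | H s =>
      change α (α (QuotientGroup.mk s)) = QuotientGroup.mk s
      rw [hαmk, hαmk]
      symm
      rw [QuotientGroup.eq]
      change (s : L)⁻¹ * a (a s) ∈ V
      have h3 := hn (s : L)⁻¹ (inv_mem s.2) _ (hsq s s.2)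
      have h4 : (s : L)⁻¹ * (a (a s) * (s : L)⁻¹) * (s : L)⁻¹⁻¹ = (s : L)⁻¹ * a (a s) := by group
      rwa [h4] at h3
  have h3 := mem_pCore_of_inv (D := H ⧸ V.subgroupOf H) h2 (fun x hx hx2 hcon => by
    -- lift to a `q`-element
    set q := orderOf x with hq
    obtain ⟨s, rfl⟩ := QuotientGroup.mk_surjective x
    obtain ⟨k, m, hm, hk⟩ := Nat.exists_eq_pow_mul_and_not_dvd (orderOf_pos s).ne' q hx.ne_one
    have hm0 : m ≠ 0 := by
      rintro rfl
      exact hm (dvd_zero q)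
    -- `d = s ^ m`, a `q`-element
    have hd : (s ^ m) ^ q ^ k = 1 := by
      rw [← pow_mul, mul_comm, ← hk, pow_orderOf_eq_one]
    have hdL : ((s : L) ^ m) ^ q ^ k = 1 := by
      have := congrArg Subtype.val hd
      simpa using this
    have hinv : α (QuotientGroup.mk (s ^ m)) = (QuotientGroup.mk (s ^ m))⁻¹ := by
      have h4 : (QuotientGroup.mk (s ^ m) : H ⧸ V.subgroupOf H) = (QuotientGroup.mk s) ^ m := rfl
      rw [h4, map_pow, hcon, inv_pow]
    rw [hαmk, ← QuotientGroup.mk_inv, QuotientGroup.eq] at hinv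
    have hinv' : (a ((s : L) ^ m))⁻¹ * ((s : L) ^ m)⁻¹ ∈ V := hinv
    have had : a ((s : L) ^ m) * (s : L) ^ m ∈ V := by
      have h5 := hn _ (pow_mem s.2 m) _ (inv_mem hinv')
      have h6 : (s : L) ^ m * ((a ((s : L) ^ m))⁻¹ * ((s : L) ^ m)⁻¹)⁻¹ * ((s : L) ^ m)⁻¹ =
          (s : L) ^ m * ((s : L) ^ m * a ((s : L) ^ m)) * ((s : L) ^ m)⁻¹ := by group
      have h7 := hn _ (inv_mem (pow_mem s.2 m)) _ (inv_mem hinv')
      have h8 : ((s : L) ^ m)⁻¹ * ((a ((s : L) ^ m))⁻¹ * ((s : L) ^ m)⁻¹)⁻¹ * ((s : L) ^ m)⁻¹⁻¹ =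
          a ((s : L) ^ m) * (s : L) ^ m := by group
      rwa [h8] at h7
    have h4 := W.eq_one_of_inv hV hVa hx hx2 hdL (fun v hv => hn _ (pow_mem s.2 m) v hv) had
    have h5 : s ^ m = 1 := Subtype.ext (by simpa using h4)
    have h6 : (QuotientGroup.mk s : H ⧸ V.subgroupOf H) ^ m = 1 := by
      rw [← QuotientGroup.mk_pow, h5, QuotientGroup.mk_one]
    exact hm (orderOf_dvd_of_pow_eq_one h6)) (QuotientGroup.mk ⟨h, hh⟩)
  -- `O_2(H/V) = 1`
  set N := ((pCore 2 (H ⧸ V.subgroupOf H)).comap (QuotientGroup.mk' (V.subgroupOf H))).map H.subtype with hN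
  have hmem : ∀ s : H, (s : L) ∈ N ↔ (QuotientGroup.mk s : H ⧸ V.subgroupOf H) ∈ pCore 2 (H ⧸ V.subgroupOf H) := by
    intro s
    constructor
    · rintro ⟨t, ht, hts⟩
      have h4 : t = s := Subtype.ext hts
      rw [← h4]
      exact ht
    · intro hs
      exact ⟨s, hs, rfl⟩
  have hNH : N ≤ H := map_subtype_le _
  have hVN : V ≤ N := by
    intro v hv
    have h4 := (hmem ⟨v, hVH hv⟩).2
    apply h4
    have h5 : (QuotientGroup.mk (⟨v, hVH hv⟩ : H) : H ⧸ V.subgroupOf H) = 1 := by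
      rw [QuotientGroup.eq_one_iff]
      exact hv
    rw [h5]
    exact one_mem _
  have hNn : ∀ g ∈ H, ∀ n ∈ N, g * n * g⁻¹ ∈ N := by
    intro g hg n hn'
    have h4 := (hmem ⟨n, hNH hn'⟩).1 hn'
    have h5 := (hmem (⟨g, hg⟩ * ⟨n, hNH hn'⟩ * ⟨g, hg⟩⁻¹)).2
    apply h5
    exact (Lib.Cores.pCore_normal (G := H ⧸ V.subgroupOf H) 2).conj_mem _ h4 (QuotientGroup.mk ⟨g, hg⟩)
  have hNp : IsPGroup 2 N := by
    rintro ⟨n, hn'⟩
    have h4 := (hmem ⟨n, hNH hn'⟩).1 hn'
    obtain ⟨i, hi⟩ := (Lib.Cores.pCore_isPGroup (G := H ⧸ V.subgroupOf H) 2) ⟨_, h4⟩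
    have hi' : (QuotientGroup.mk (⟨n, hNH hn'⟩ : H) : H ⧸ V.subgroupOf H) ^ 2 ^ i = 1 := congrArg Subtype.val hi
    rw [← QuotientGroup.mk_pow, QuotientGroup.eq_one_iff] at hi'
    have hi'' : n ^ 2 ^ i ∈ V := hi'
    obtain ⟨j, hj⟩ := hV ⟨_, hi''⟩
    have hj' : (n ^ 2 ^ i) ^ 2 ^ j = 1 := congrArg Subtype.val hj
    refine ⟨i + j, Subtype.ext ?_⟩
    change n ^ 2 ^ (i + j) = 1
    rw [pow_add, pow_mul, hj']
  have h4 : (((b ⟨h, hh⟩)⁻¹ * ⟨h, hh⟩ : H) : L) ∈ N := by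
    rw [hmem]
    have h5 : (QuotientGroup.mk ((b ⟨h, hh⟩)⁻¹ * ⟨h, hh⟩) : H ⧸ V.subgroupOf H) =
        (α (QuotientGroup.mk ⟨h, hh⟩))⁻¹ * QuotientGroup.mk ⟨h, hh⟩ := by
      rw [hαmk]
      rfl
    rw [h5]
    exact h3
  exact hO N hVN hNH hNn hNp h4

end Wk

end Cfsg.Agent.H509.Weak
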